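import Cfsg.Agent.H55.Cover.SpSixUnip

/-!
The semilinear group of a cubic field structure on a six-dimensional symplectic space meets every class of
isometries without invariant non-degenerate planes.
-/

set_option autoImplicit false
set_option linter.style.haveILetI false
set_option linter.unusedSectionVars false

namespace Cfsg.Agent.H55.Cover.SpSix

open LinearMap (BilinForm)
open Polynomial

variable {F V : Type*} [Field F] [CharP F 3] [AddCommGroup V] [Module F V] [FiniteDimensional F V]
variable {B : BilinForm F V}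

theorem end_isometry_pow {x : Module.End F V} (hx : ∀ a b, B (x a) (x b) = B a b) :
    ∀ (n : ℕ) (a b : V), B ((x ^ n) a) ((x ^ n) b) = B a b := by
  intro n
  induction n with
  | zero => simp
  | succ n ih => intro a b; simp only [pow_succ, Module.End.mul_apply, ih, hx]

/-- Elements whose `x + x⁻¹` has one eigenvalue. -/
theorem linear_cases [Fintype F] (hA : B.IsAlt) (hB : B.Nondegenerate) (hdim : Module.finrank F V = 6)
    {x xi : Module.End F V} (hxx : x * xi = 1) (hix : xi * x = 1) (hx : ∀ u v, B (x u) (x v) = B u v) {t : F}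
    (h3 : (x + xi - t • 1) ^ 3 = 0) :
    Covered B x ∨ NF3 B t x ∨ (t ^ 2 = 1 ∧ ∃ c ≠ 0, NF5 B t c x) := by
  haveI : Nontrivial V := Module.nontrivial_of_finrank_pos (R := F) (by omega)
  haveI : CharP (Module.End F V) 3 := charP_of_injective_algebraMap (algebraMap F (Module.End F V)).injective 3
  haveI : Fact (Nat.Prime 3) := ⟨Nat.prime_three⟩
  set g : F[X] := X ^ 2 - C t * X + 1 with hg
  have hgx : aeval x g = (x + xi - t • 1) * x := by
    rw [hg, map_add, map_sub, map_mul, map_pow, aeval_X, aeval_C, map_one, Algebra.algebraMap_eq_smul_one]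
    rw [sub_mul, add_mul, hix, pow_two]
    abel
  have hg3 : aeval x g ^ 3 = 0 := by
    have hc : Commute (x + xi - t • 1) x :=
      ((Commute.refl x).add_left (show xi * x = x * xi by rw [hxx, hix])).sub_left ((Commute.one_left x).smul_left t)
    rw [hgx, hc.mul_pow, h3, zero_mul]
  by_cases ht : t ^ 2 = 1
  · set u : Module.End F V := (-t) • x with hudef
    set ui : Module.End F V := (-t) • xi with huidef
    have htt : -t * -t = 1 := by linear_combination ht
    have huu : u * ui = 1 := by rw [hudef, huidef, smul_mul_smul_comm, htt, hxx, one_smul]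
    have hiu : ui * u = 1 := by rw [hudef, huidef, smul_mul_smul_comm, htt, hix, one_smul]
    have hu : ∀ a b, B (u a) (u b) = B a b := fun a b => by
      simp only [hudef, LinearMap.smul_apply, map_smul, smul_eq_mul, hx]
      linear_combination (B a b) * htt
    have hxu : x = (-t) • u := by rw [hudef, smul_smul, htt, one_smul]
    have hu2 : (u - 1) * (u - 1) = aeval x g := by
      rw [hg, map_add, map_sub, map_mul, map_pow, aeval_X, aeval_C, map_one, Algebra.algebraMap_eq_smul_one, hudef,
        pow_two]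
      simp only [sub_mul, mul_sub, mul_smul_comm, smul_smul, htt, one_smul, one_mul, mul_one, smul_mul_assoc]
      match_scalars
      all_goals first | ring1 | linear_combination ht | linear_combination t * three_eq_zero (F := F) |
        linear_combination -t * three_eq_zero (F := F)
    have h6 : (u - 1) ^ 6 = 0 := by rw [show 6 = 2 * 3 from rfl, pow_mul, pow_two, hu2, hg3]
    by_cases h33 : (u - 1) ^ 3 = 0
    · have hu3 : u ^ 3 = 1 := by
        rw [sub_pow_char_of_commute (p := 3) (Commute.one_right u), one_pow, sub_eq_zero] at h33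
        exact h33
      have hxsu : x = ((-t) • (1 : Module.End F V)) * u := by rw [smul_mul_assoc, one_mul]; exact hxu
      rw [hxsu]
      rcases covered_or_NF3 hA hB hdim (s := (-t) • 1) (u := u) (t := t)
        (fun a b => by
          simp only [LinearMap.smul_apply, Module.End.one_apply, map_smul, smul_eq_mul]
          linear_combination (B a b) * htt)
        hu ((Commute.one_left u).smul_left _)
        (by
          rw [mul_sub, smul_mul_smul_comm, smul_mul_smul_comm, ← sub_smul, mul_one,
            show -t * t - -t * -t = (1 : F) by linear_combination (-2 : F) * ht - three_eq_zero (F := F), one_smul])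
        (fun _ v => rfl) hu3 with h | h
      · exact Or.inl h.1
      · exact Or.inr (Or.inl h)
    · rw [hxu]
      rcases covered_or_NF5 hA hB hdim huu hiu hu ht h6 h33 with h | h
      · exact Or.inl h.1
      · exact Or.inr (Or.inr ⟨ht, h⟩)
  · set q := Fintype.card F with hq
    set Q := q * q with hQ
    have hq2 : 2 ≤ q := Fintype.one_lt_card
    have hfrob : ∀ (f : F[X]) (y : Module.End F V), aeval y (f ^ Q) = aeval (y ^ Q) f := fun f y => by
      rw [hQ, pow_mul, ← FiniteField.expand_card, expand_aeval, ← FiniteField.expand_card, expand_aeval, ← pow_mul]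
    obtain ⟨k, hk⟩ : ∃ k, q = 2 * k + 1 := ⟨q / 2, by
      have : q % 2 = 1 := FiniteField.odd_card_of_char_ne_two (by rw [ringChar.eq F 3]; norm_num)
      omega⟩
    set s := x ^ Q with hs
    have hgs : aeval s g = 0 := by
      rw [hs, ← hfrob, map_pow]
      exact pow_eq_zero_of_le (show 3 ≤ Q by nlinarith) hg3
    have hss : s * (t • 1 - s) = 1 := by
      rw [hg, map_add, map_sub, map_mul, map_pow, aeval_X, aeval_C, map_one, Algebra.algebraMap_eq_smul_one,
        smul_mul_assoc, one_mul, pow_two] at hgs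
      rw [mul_sub, mul_smul_comm, mul_one, ← sub_eq_zero, ← neg_eq_zero, ← hgs]
      abel
    have hcs : Commute s (t • 1 - s) := ((Commute.one_right s).smul_right t).sub_right (Commute.refl s)
    set z := x ^ 3 with hz
    have hz2 : z * z - (t ^ 3) • z + 1 = 0 := by
      have e : g ^ 3 = (X ^ 2) ^ 3 - C (t ^ 3) * X ^ 3 + 1 := by
        rw [hg, add_pow_char, sub_pow_char, one_pow, mul_pow, C_pow]
      rw [← map_pow, e] at hg3
      simp only [map_add, map_sub, map_mul, map_pow, aeval_X, aeval_C, map_one, Algebra.algebraMap_eq_smul_one,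
        _root_.smul_pow, one_pow, smul_mul_assoc, one_mul, ← pow_mul] at hg3
      rw [hz, ← pow_add]
      exact hg3
    have hd0 : t ^ 6 - 1 ≠ 0 := by
      rw [show t ^ 6 - 1 = (t ^ 2 - 1) ^ 3 by linear_combination (t ^ 4 - t ^ 2) * three_eq_zero (F := F)]
      exact pow_ne_zero _ (sub_ne_zero.mpr ht)
    have hzQ : z ^ Q = z := by
      set w := z + (t ^ 3) • 1 with hw
      have hww : w * w = (t ^ 6 - 1) • (1 : Module.End F V) := by
        have h3e : (3 * t ^ 3 : F) • z = 0 := by rw [three_eq_zero, zero_mul, zero_smul]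
        rw [hw]
        simp only [add_mul, mul_add, smul_mul_assoc, mul_smul_comm, one_mul, mul_one, smul_smul]
        linear_combination (norm := module) hz2 + h3e
      have hQn : Q = 2 * ((q - 1) * (k + 1)) + 1 := by
        rw [hQ, hk, Nat.add_sub_cancel]; ring
      have hwQ : w ^ Q = w := by
        rw [hQn, pow_succ, pow_mul, pow_two, hww, _root_.smul_pow, one_pow, pow_mul,
          FiniteField.pow_card_sub_one_eq_one _ hd0, one_pow, one_smul, one_mul]
      have e := hfrob (X + C (t ^ 3)) z
      rw [map_pow, map_add, map_add, aeval_X, aeval_X, aeval_C, aeval_C, Algebra.algebraMap_eq_smul_one, ← hw, hwQ,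
        hw] at e
      exact (add_right_cancel e).symm
    set u := x * (t • 1 - s) with hu
    have hxs : Commute x s := Commute.self_pow x Q
    have hxsi : Commute x (t • 1 - s) := ((Commute.one_right x).smul_right t).sub_right hxs
    have hu3 : u ^ 3 = 1 := by
      rw [hu, hxsi.mul_pow, ← hz, ← hzQ, hz, ← pow_mul, mul_comm 3, pow_mul, ← hs, ← hcs.mul_pow, hss, one_pow]
    have hxu : x = s * u := by rw [hu, ← mul_assoc, ← hxs.eq, mul_assoc, hss, mul_one]
    have hsi : ∀ a b, B (s a) (s b) = B a b := end_isometry_pow hx Q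
    rw [hxu]
    rcases covered_or_NF3 hA hB hdim (s := s) (u := u) (t := t) hsi
      (fun a b => by
        rw [hu, Module.End.mul_apply, Module.End.mul_apply, hx, ← hsi, ← Module.End.mul_apply, hss,
          ← Module.End.mul_apply, hss, Module.End.one_apply, Module.End.one_apply])
      (hxs.symm.mul_right hcs) hss (fun h => absurd h ht) hu3 with h | h
    · exact Or.inl h.1
    · exact Or.inr (Or.inl h)

theorem NF5.scale {V' : Type*} [AddCommGroup V'] [Module F V'] {B' : BilinForm F V'} {t c ν : F}
    {x : Module.End F V} {x' : Module.End F V'} (D : V ≃ₗ[F] V') (hD : ∀ u v, B' (D u) (D v) = ν * B u v)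
    (hx : ∀ v, x' (D v) = D (x v)) (h : NF5 B t c x) : NF5 B' t (ν * c) x' := by
  obtain ⟨M, w, e, h6, hg⟩ := h
  let M' : Module.End F V' := (D : V →ₗ[F] V') ∘ₗ M ∘ₗ (D.symm : V' →ₗ[F] V)
  have hM : ∀ v, M' (D v) = D (M v) := fun v => by simp [M']
  have hp : ∀ (k : ℕ) (v : V), (M' ^ k) (D v) = D ((M ^ k) v) := by
    intro k
    induction k with
    | zero => simp
    | succ k ih => intro v; simp only [pow_succ, Module.End.mul_apply, hM, ih]
  refine ⟨M', D w, ?_, ?_, fun i j => ?_⟩
  · refine LinearMap.ext fun v => ?_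
    obtain ⟨v, rfl⟩ := D.surjective v
    rw [hx, e]
    simp [hM]
  · refine LinearMap.ext fun v => ?_
    obtain ⟨v, rfl⟩ := D.surjective v
    rw [hp, h6]; simp
  · rw [hp, hp, hD, hg]
    simp only [anti, mul_ite, mul_zero]
    split_ifs <;> ring

/-! ### The model -/

variable {L : Type*} [Field L] [Algebra F L] [FiniteDimensional F L]

variable (F L) in
/-- The trace of the determinant on `L²`. -/
noncomputable def modelForm : BilinForm F (L × L) :=
  LinearMap.mk₂ F (fun z w => Algebra.trace F L (z.1 * w.2 - z.2 * w.1))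
    (fun a b c => by simp only [Prod.fst_add, Prod.snd_add, ← map_add]; congr 1; ring)
    (fun r a b => by
      simp only [Prod.smul_fst, Prod.smul_snd, smul_mul_assoc, ← smul_sub, map_smul])
    (fun a b c => by simp only [Prod.fst_add, Prod.snd_add, ← map_add]; congr 1; ring)
    (fun r a b => by
      simp only [Prod.smul_fst, Prod.smul_snd, mul_smul_comm, ← smul_sub, map_smul])

theorem modelForm_apply (z w : L × L) :
    modelForm F L z w = Algebra.trace F L (z.1 * w.2 - z.2 * w.1) := rfl

theorem modelForm_alt : (modelForm F L).IsAlt := fun z => by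
  rw [modelForm_apply, mul_comm z.2, sub_self, map_zero]

theorem modelForm_nondeg [Algebra.IsSeparable F L] : (modelForm F L).Nondegenerate := by
  have key : ∀ z : L × L, (∀ w, modelForm F L z w = 0) → z = 0 := by
    intro z hz
    have hT := traceForm_nondegenerate F L
    refine Prod.ext (hT.1 _ fun b => ?_) (hT.1 _ fun b => ?_)
    · have := hz (0, b)
      simpa [modelForm_apply, Algebra.traceForm_apply] using this
    · have := hz (-b, 0)
      simpa [modelForm_apply, Algebra.traceForm_apply] using this
  exact ⟨key, fun z hz => key z fun w => by rw [alt_neg modelForm_alt, hz, neg_zero]⟩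

/-- Semilinear maps. -/
def Semi (T : Module.End F (L × L)) : Prop := ∀ l : L, ∃ l' : L, ∀ z : L × L, T (l • z) = l' • T z

theorem model_finrank (h : Module.finrank F L = 3) : Module.finrank F (L × L) = 6 := by
  rw [Module.finrank_prod, h]

/-- A self-adjoint cubic field of operators gives an isometry with the model. -/
theorem exists_field_iso [Algebra.IsSeparable F L] (hA : B.IsAlt) (hB : B.Nondegenerate)
    (hdim : Module.finrank F V = 6) (hL : Module.finrank F L = 3) (ψ : L →ₐ[F] Module.End F V)
    (hsa : ∀ l u v, B (ψ l u) v = B u (ψ l v)) :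
    ∃ e : (L × L) ≃ₗ[F] V, (∀ z w, B (e z) (e w) = modelForm F L z w) ∧
      ∀ (l : L) (z : L × L), e (l • z) = ψ l (e z) := by
  haveI : Nontrivial V := Module.nontrivial_of_finrank_pos (R := F) (by omega)
  obtain ⟨v, hv⟩ := exists_ne (0 : V)
  let ι : L →ₗ[F] V := (LinearMap.applyₗ v) ∘ₗ ψ.toLinearMap
  have hι : Function.Injective ι := by
    rw [injective_iff_map_eq_zero]
    intro l hl
    by_contra h0
    apply hv
    have h1 : ψ l v = 0 := hl
    have : ψ (l⁻¹ * l) v = 0 := by rw [map_mul, Module.End.mul_apply, h1, map_zero]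
    rwa [inv_mul_cancel₀ h0, map_one, Module.End.one_apply] at this
  obtain ⟨w, hw⟩ : ∃ w, ∀ l, B (ψ l v) w = Algebra.trace F L l := by
    obtain ⟨f, hf⟩ := LinearMap.dualMap_surjective_of_injective hι (Algebra.trace F L)
    obtain ⟨w, hw⟩ := (B.toDual hB).surjective f
    refine ⟨-w, fun l => ?_⟩
    rw [map_neg, ← alt_neg hA w (ψ l v), ← hf]
    show B w (ψ l v) = f (ψ l v)
    rw [← hw, LinearMap.BilinForm.toDual_def]
  have hvv : ∀ a b, B (ψ a v) (ψ b v) = 0 := fun a b => by
    rw [hsa, ← Module.End.mul_apply, ← map_mul]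
    exact sa_zero hA (hsa _) v
  have hww : ∀ a b, B (ψ a w) (ψ b w) = 0 := fun a b => by
    rw [hsa, ← Module.End.mul_apply, ← map_mul]
    exact sa_zero hA (hsa _) w
  have hvw : ∀ a b, B (ψ a v) (ψ b w) = Algebra.trace F L (a * b) := fun a b => by
    rw [← hsa, ← Module.End.mul_apply, ← map_mul, mul_comm, hw]
  let φ : (L × L) →ₗ[F] V :=
    ((LinearMap.applyₗ v) ∘ₗ ψ.toLinearMap).coprod ((LinearMap.applyₗ w) ∘ₗ ψ.toLinearMap)
  have hφ : ∀ z, φ z = ψ z.1 v + ψ z.2 w := fun z => rfl
  have hpres : ∀ z z', B (φ z) (φ z') = modelForm F L z z' := fun z z' => by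
    simp only [hφ, map_add, LinearMap.add_apply, hvv, hww, hvw, modelForm_apply, map_sub,
      alt_neg hA (ψ z.2 w) (ψ z'.1 v), mul_comm z.2 z'.1]
    ring
  have hinj : Function.Injective φ := by
    rw [injective_iff_map_eq_zero]
    intro z hz
    exact modelForm_nondeg.1 z fun z' => by rw [← hpres, hz, map_zero, LinearMap.zero_apply]
  let e := LinearEquiv.ofBijective φ ⟨hinj, (LinearMap.injective_iff_surjective_of_finrank_eq_finrank
    (by rw [model_finrank hL, hdim])).mp hinj⟩
  refine ⟨e, hpres, fun l z => ?_⟩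
  show φ (l • z) = ψ l (φ z)
  rw [hφ, hφ, map_add, Prod.smul_fst, Prod.smul_snd, smul_eq_mul, smul_eq_mul, map_mul, map_mul,
    Module.End.mul_apply, Module.End.mul_apply]

variable (L) in
/-- A semisimple element of `SL₂(F)` on `L²`. -/
noncomputable def sMap [DecidableEq F] (t : F) : Module.End F (L × L) :=
  if t ^ 2 = 1 then (-t) • 1 else
    LinearMap.prod (-LinearMap.snd F L L) (LinearMap.fst F L L + t • LinearMap.snd F L L)

/-- A field automorphism followed by a transvection. -/
def uMap (σ : L ≃ₐ[F] L) (lam : L) : Module.End F (L × L) where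
  toFun z := (σ z.1 + lam * σ z.2, σ z.2)
  map_add' a b := by ext <;> simp [mul_add]; ring
  map_smul' r a := by ext <;> simp [smul_add, mul_smul_comm]

theorem uMap_apply (σ : L ≃ₐ[F] L) (lam : L) (z : L × L) :
    uMap σ lam z = (σ z.1 + lam * σ z.2, σ z.2) := rfl

/-- Facts about the generator of the Galois group of a cubic extension. -/
theorem exists_gal [Fintype F] [Finite L] (hL : Module.finrank F L = 3) :
    ∃ σ : L ≃ₐ[F] L, (∀ a, σ (σ (σ a)) = a) ∧ (∀ a, σ a = a → a ∈ Set.range (algebraMap F L)) ∧
      ∃ a, σ (σ a) + σ a + a ≠ 0 := by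
  haveI : CharP L 3 := charP_of_injective_algebraMap (algebraMap F L).injective 3
  let σ := FiniteField.frobeniusAlgEquivOfAlgebraic F L
  have ho : orderOf σ = 3 := by rw [FiniteField.orderOf_frobeniusAlgEquivOfAlgebraic, hL]
  have h3 : σ ^ 3 = 1 := by rw [← ho]; exact pow_orderOf_eq_one σ
  have hfix : ∀ a, σ a = a → a ∈ Set.range (algebraMap F L) := by
    intro a ha
    rw [IsGalois.mem_range_algebraMap_iff_fixed]
    intro f
    obtain ⟨j, hj⟩ := (FiniteField.bijective_frobeniusAlgEquivOfAlgebraic_pow F L).surjective f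
    rw [← hj]
    show (σ ^ (j : ℕ)) a = a
    induction (j : ℕ) with
    | zero => rfl
    | succ n ih => rw [pow_succ, AlgEquiv.mul_apply, ha, ih]
  refine ⟨σ, fun a => ?_, hfix, ?_⟩
  · have := congrArg (fun τ : L ≃ₐ[F] L => τ a) h3
    simpa [pow_succ] using this
  by_contra h
  push Not at h
  have hone : σ = 1 := AlgEquiv.ext fun a => by
    have t3 : (3 : L) = 0 := by exact_mod_cast CharP.cast_eq_zero L 3
    set c := σ a - a with hc
    have e1 : σ a = a + c := by rw [hc]; ring
    have e2 : σ c = c := by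
      have h1 := h a
      rw [e1, map_add, e1] at h1
      linear_combination h1 - (a + c) * t3
    have h1 := h (a * a)
    rw [map_mul, e1, map_mul, map_add, e1, e2] at h1
    have hc2 : 2 * (c * c) = 0 := by linear_combination h1 - (a * a + 2 * a * c + c * c) * t3
    have h2 : (2 : L) ≠ 0 := fun e => one_ne_zero (α := L) (by linear_combination t3 - e)
    have hc0 : c = 0 := mul_self_eq_zero.mp ((mul_eq_zero.mp hc2).resolve_left h2)
    rw [e1, hc0, add_zero]; rfl
  rw [hone, orderOf_one] at ho
  norm_num at ho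

section
variable (σ : L ≃ₐ[F] L)

theorem uMap_isometry (lam : L) (a b : L × L) :
    modelForm F L (uMap σ lam a) (uMap σ lam b) = modelForm F L a b := by
  rw [modelForm_apply, modelForm_apply, uMap_apply, uMap_apply,
    ← Algebra.trace_eq_of_algEquiv σ (a.1 * b.2 - a.2 * b.1)]
  congr 1
  simp only [map_sub, map_mul]
  ring

theorem semi_uMap (lam : L) : Semi (uMap σ lam) := fun l => ⟨σ l, fun z => by
  simp only [uMap_apply, Prod.smul_fst, Prod.smul_snd, smul_eq_mul, map_mul, Prod.smul_mk]
  congr 1
  ring⟩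

theorem Semi.smul {T : Module.End F (L × L)} (h : Semi T) (c : F) : Semi (c • T) := fun l => by
  obtain ⟨l', hl⟩ := h l
  exact ⟨l', fun z => by simp only [LinearMap.smul_apply, hl]; exact smul_comm c l' (T z)⟩

end

theorem semi_sMap_mul [DecidableEq F] (t : F) {T : Module.End F (L × L)} (h : Semi T) : Semi (sMap L t * T) := by
  intro l
  obtain ⟨l', hl⟩ := h l
  refine ⟨l', fun z => ?_⟩
  rw [Module.End.mul_apply, Module.End.mul_apply, hl, sMap]
  split_ifs
  · exact smul_comm (-t) l' (T z)
  · simp only [LinearMap.prod_apply, Function.prod_apply, LinearMap.neg_apply, LinearMap.add_apply, LinearMap.smul_apply,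
      LinearMap.fst_apply, LinearMap.snd_apply, Prod.smul_fst, Prod.smul_snd, Prod.smul_mk, smul_eq_mul]
    congr 1
    · ring
    · rw [mul_add, mul_smul_comm]

variable [Fintype F] [Finite L] (hL : Module.finrank F L = 3)
include hL

theorem model_NF3 (t : F) : ∃ T : Module.End F (L × L), Semi T ∧ NF3 (modelForm F L) t T := by
  classical
  obtain ⟨σ, hσ3, hfix, a0, ha0⟩ := exists_gal hL
  haveI : CharP L 3 := charP_of_injective_algebraMap (algebraMap F L).injective 3
  have t3 : (3 : L) = 0 := by exact_mod_cast CharP.cast_eq_zero L 3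
  refine ⟨sMap L t * uMap σ 0, semi_sMap_mul t (semi_uMap σ 0), ?_⟩
  have hss : sMap L t * (t • 1 - sMap L t) = 1 := by
    refine LinearMap.ext fun z => ?_
    rw [sMap]
    split_ifs with ht
    · simp only [Module.End.mul_apply, LinearMap.sub_apply, LinearMap.smul_apply, Module.End.one_apply]
      rw [← sub_smul, smul_smul,
        show -t * (t - -t) = (1 : F) by linear_combination (-2 : F) * ht - three_eq_zero (F := F), one_smul]
    · ext <;> simp [LinearMap.prod_apply]
  refine (covered_or_NF3 modelForm_alt modelForm_nondeg (model_finrank hL) (fun a b => ?_) (uMap_isometry σ 0)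
    ?_ hss (fun ht v => by rw [sMap, if_pos ht]; rfl) ?_).resolve_left fun h => h.2 ⟨fun a b ha hb => ?_, fun h2 => ?_⟩
  · rw [sMap]
    split_ifs with ht
    · simp only [LinearMap.smul_apply, Module.End.one_apply, map_smul, smul_eq_mul]
      linear_combination (modelForm F L a b) * ht
    · simp only [modelForm_apply, LinearMap.prod_apply, Function.prod_apply, LinearMap.neg_apply, LinearMap.add_apply,
        LinearMap.smul_apply, LinearMap.fst_apply, LinearMap.snd_apply]
      congr 1
      simp only [Algebra.smul_def]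
      ring
  · refine LinearMap.ext fun z => ?_
    rw [sMap]
    split_ifs
    · simp [map_smul]
    · simp [uMap_apply, LinearMap.prod_apply]
  · refine LinearMap.ext fun z => ?_
    simp [pow_succ, uMap_apply, hσ3]
  · obtain ⟨a1, ha1⟩ := hfix a.1 (by simpa [uMap_apply] using congrArg Prod.fst ha)
    obtain ⟨a2, ha2⟩ := hfix a.2 (by simpa [uMap_apply] using congrArg Prod.snd ha)
    obtain ⟨b1, hb1⟩ := hfix b.1 (by simpa [uMap_apply] using congrArg Prod.fst hb)
    obtain ⟨b2, hb2⟩ := hfix b.2 (by simpa [uMap_apply] using congrArg Prod.snd hb)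
    rw [modelForm_apply, ← ha1, ← ha2, ← hb1, ← hb2, ← map_mul, ← map_mul, ← map_sub, Algebra.trace_algebraMap, hL,
      nsmul_eq_mul, Nat.cast_ofNat, three_eq_zero, zero_mul]
  · have := congrArg (fun T : Module.End F (L × L) => (T (a0, 0)).1) h2
    simp [pow_two, uMap_apply] at this
    exact ha0 (by linear_combination this + σ a0 * t3)

theorem model_NF5 {t c : F} (ht : t ^ 2 = 1) (hc : c ≠ 0) :
    ∃ T : Module.End F (L × L), Semi T ∧ NF5 (modelForm F L) t c T := by
  obtain ⟨σ, hσ3, -, a0, ha0⟩ := exists_gal hL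
  haveI : CharP L 3 := charP_of_injective_algebraMap (algebraMap F L).injective 3
  have t3 : (3 : L) = 0 := by exact_mod_cast CharP.cast_eq_zero L 3
  haveI : Fact (Nat.Prime 3) := ⟨Nat.prime_three⟩
  haveI : CharP (Module.End F (L × L)) 3 :=
    charP_of_injective_algebraMap (algebraMap F (Module.End F (L × L))).injective 3
  set τ := σ (σ a0) + σ a0 + a0 with hτ
  have hστ : σ τ = τ := by simp only [hτ, map_add, hσ3]; ring
  set u := uMap σ a0 with hu
  have hu3 : ∀ z : L × L, (u ^ 3) z = (z.1 + τ * z.2, z.2) := fun z => by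
    simp only [hu, pow_succ, pow_zero, one_mul, Module.End.mul_apply, uMap_apply, map_add, map_mul, hσ3, hτ]
    congr 1
    ring
  have hu9 : u ^ 8 * u = 1 := by
    rw [← pow_succ, show 8 + 1 = 3 * 3 from rfl, pow_mul]
    refine LinearMap.ext fun z => ?_
    simp only [pow_succ, pow_zero, one_mul, Module.End.mul_apply]
    rw [show u (u (u (u (u (u (u (u (u z)))))))) = (u ^ 3) ((u ^ 3) ((u ^ 3) z)) by
      simp [pow_succ], hu3, hu3, hu3]
    refine Prod.ext ?_ rfl
    show z.1 + τ * z.2 + τ * z.2 + τ * z.2 = z.1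
    linear_combination (τ * z.2) * t3
  have hsub : (u - 1) ^ 3 = u ^ 3 - 1 := by
    rw [sub_pow_char_of_commute (p := 3) (Commute.one_right u), one_pow]
  have h6 : (u - 1) ^ 6 = 0 := by
    rw [show 6 = 3 * 2 from rfl, pow_mul, hsub]
    refine LinearMap.ext fun z => ?_
    simp [pow_two, hu3]
    ext <;> simp
  have hne3 : (u - 1) ^ 3 ≠ 0 := by
    intro h
    rw [hsub] at h
    have := congrArg (fun T : Module.End F (L × L) => (T (0, 1)).1) h
    simp [hu3] at this
    exact ha0 this
  have h5 : (u - 1) ^ 5 ≠ 0 := by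
    intro h
    have hN : ∀ z : L, ((u - 1) ^ 2 : Module.End F (L × L)) (z, 0) = (σ (σ z) - σ z - (σ z - z), 0) := fun z => by
      simp [pow_two, hu, uMap_apply]
    rw [show 5 = 2 + 3 from rfl, pow_add, hsub] at h
    have := congrArg (fun T : Module.End F (L × L) => (T (0, a0)).1) h
    simp only [Module.End.mul_apply, LinearMap.sub_apply, hu3, Module.End.one_apply, Prod.mk_sub_mk, sub_self,
      zero_add, sub_zero, LinearMap.zero_apply, Prod.fst_zero, hN, map_mul, hστ] at this
    apply ha0
    have h7 : τ * τ = 0 := by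
      linear_combination this + τ * σ a0 * t3
    exact mul_self_eq_zero.mp h7
  obtain ⟨c1, hc1, hnf⟩ := (covered_or_NF5 modelForm_alt modelForm_nondeg (model_finrank hL) (u := u) (ui := u ^ 8)
    (by rw [← pow_succ', pow_succ, hu9]) hu9 (uMap_isometry σ a0) ht h6 hne3).resolve_left fun h => h5 h.2
  let ν := c / c1
  have hν : ν ≠ 0 := div_ne_zero hc hc1
  let D : (L × L) ≃ₗ[F] (L × L) := (LinearEquiv.smulOfUnit (Units.mk0 ν hν)).prodCongr (LinearEquiv.refl F L)
  refine ⟨(-t) • uMap σ (ν • a0), (semi_uMap σ _).smul _, ?_⟩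
  have hD : ∀ z, D z = (ν • z.1, z.2) := fun z => rfl
  have := NF5.scale (B' := modelForm F L) (ν := ν) D (x' := (-t) • uMap σ (ν • a0)) (fun p r => by
      simp only [hD, modelForm_apply, ← smul_eq_mul (α := F), ← map_smul, smul_sub, smul_mul_assoc, mul_smul_comm])
    (fun z => by
      simp only [hD, LinearMap.smul_apply, uMap_apply, map_smul, hu, Prod.smul_mk, Prod.mk.injEq, and_true]
      rw [smul_mul_assoc, ← smul_add, smul_comm]) hnf
  rwa [div_mul_cancel₀ c hc1] at this

/-- Every isometry has an invariant non-degenerate plane or is semilinear for some cubic structure. -/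
theorem covered_or_semi [Algebra.IsSeparable F L] (hA : B.IsAlt) (hB : B.Nondegenerate)
    (hdim : Module.finrank F V = 6) {x xi : Module.End F V} (hxx : x * xi = 1) (hix : xi * x = 1)
    (hx : ∀ u v, B (x u) (x v) = B u v) :
    Covered B x ∨ ∃ (e : (L × L) ≃ₗ[F] V) (T : Module.End F (L × L)),
      Semi T ∧ (∀ z w, B (e z) (e w) = modelForm F L z w) ∧ ∀ z, e (T z) = x (e z) := by
  rcases split_cases hA hB hdim hxx hix hx with h | ⟨h, hm, hi, hd, hy⟩ | ⟨t, ht⟩
  · exact Or.inl h
  · right
    haveI : Fact (Irreducible h) := ⟨hi⟩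
    haveI : Module.Finite F (AdjoinRoot h) := (AdjoinRoot.powerBasis hi.ne_zero).finite
    haveI : Finite (AdjoinRoot h) := Module.finite_of_finite F
    obtain ⟨φ⟩ := FiniteField.nonempty_algHom_of_finrank_dvd (F := F) (K := L) (L := AdjoinRoot h)
      (by rw [hL, (AdjoinRoot.powerBasis hi.ne_zero).finrank, AdjoinRoot.powerBasis_dim, hd])
    let π : AdjoinRoot h →ₐ[F] Module.End F V :=
      { toRingHom := Ideal.Quotient.lift (Ideal.span {h}) (aeval (R := F) (x + xi)).toRingHom (fun a ha => by
          obtain ⟨k, rfl⟩ := Ideal.mem_span_singleton.mp ha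
          show aeval (x + xi) (h * k) = 0
          rw [map_mul, hy, zero_mul])
        commutes' := fun r => by
          show aeval (x + xi) (Polynomial.C r) = _
          rw [aeval_C] }
    let ψ : L →ₐ[F] Module.End F V := π.comp φ
    have hψ : ∀ l, ∃ f : F[X], ψ l = aeval (x + xi) f := fun l => by
      obtain ⟨f, hf⟩ := AdjoinRoot.mk_surjective (φ l)
      exact ⟨f, by show π (φ l) = _; rw [← hf]; rfl⟩
    have hadj : ∀ u v, B (x u) v = B u (xi v) := fun u v => by
      conv_lhs => rw [show v = x (xi v) by rw [← Module.End.mul_apply, hxx, Module.End.one_apply], hx]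
    have hadj' : ∀ u v, B (xi u) v = B u (x v) := fun u v => by
      rw [alt_neg hA, ← hadj, alt_neg hA (x v), neg_neg]
    have hsa : ∀ l u v, B (ψ l u) v = B u (ψ l v) := fun l u v => by
      obtain ⟨f, hf⟩ := hψ l
      rw [hf]
      refine sa_aeval (fun a b => ?_) f u v
      simp only [LinearMap.add_apply, map_add, hadj, hadj']
      rw [add_comm]
    obtain ⟨e, he, hel⟩ := exists_field_iso hA hB hdim hL ψ hsa
    refine ⟨e, (e.symm : V →ₗ[F] L × L) ∘ₗ x ∘ₗ (e : L × L →ₗ[F] V), fun l => ⟨l, fun z => ?_⟩, he,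
      fun z => by simp⟩
    apply e.injective
    simp only [LinearMap.comp_apply, LinearEquiv.coe_coe, LinearEquiv.apply_symm_apply, hel]
    obtain ⟨f, hf⟩ := hψ l
    have hc : Commute x (aeval (x + xi) f) := by
      refine Algebra.commute_of_mem_adjoin_singleton_of_commute (aeval_mem_adjoin_singleton F (x + xi)) ?_
      show x * (x + xi) = (x + xi) * x
      rw [mul_add, add_mul, hxx, hix]
    rw [hf, ← Module.End.mul_apply, hc.eq, Module.End.mul_apply]
  · rcases linear_cases hA hB hdim hxx hix hx ht with h | h | ⟨ht', c, hc, h⟩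
    · exact Or.inl h
    · obtain ⟨T, hT, hT'⟩ := model_NF3 hL t
      obtain ⟨e, he, he'⟩ := hT'.iso (model_finrank hL) hdim h
      exact Or.inr ⟨e, T, hT, he, he'⟩
    · obtain ⟨T, hT, hT'⟩ := model_NF5 hL ht' hc
      obtain ⟨e, he, he'⟩ := hT'.iso (model_finrank hL) hdim hc h
      exact Or.inr ⟨e, T, hT, he, he'⟩

end Cfsg.Agent.H55.Cover.SpSix
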