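import Cfsg.Agent.H55.Cover.Basic
import Cfsg.Agent.H55.Cover.SpSixModel
import Cfsg.Agent.H55.Cover.Root
import Cfsg.Agent.Symplectic.Center

/-!
`PSp₆(3ᵃ)` is covered by the conjugates of the stabiliser of a non-degenerate plane and of the semilinear group
of a cubic field.
-/

set_option autoImplicit false
set_option linter.style.haveILetI false
set_option linter.unusedSectionVars false

namespace Cfsg.Agent.H55.Cover.SpSix

open Cfsg.Agent.Symplectic
open scoped Matrix

variable {F : Type*} [Field F]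

local notation "V6" => (Fin 3 ⊕ Fin 3 → F)
local notation "Sp6" => Matrix.symplecticGroup (Fin 3) F

/-- A symplectic matrix as an operator. -/
noncomputable def spEnd (g : Sp6) : Module.End F V6 := Matrix.toLin' (g : Mat 3 F)

theorem spEnd_apply (g : Sp6) (v : V6) : spEnd g v = (g : Mat 3 F) *ᵥ v := Matrix.toLin'_apply _ _

theorem spEnd_mul (g h : Sp6) : spEnd (g * h) = spEnd g * spEnd h := by
  refine LinearMap.ext fun v => ?_
  simp [spEnd_apply, Matrix.mulVec_mulVec]

theorem spEnd_one : spEnd (1 : Sp6) = 1 := by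
  refine LinearMap.ext fun v => ?_
  simp [spEnd_apply]

section K

variable {L : Type*} [Field L] [Algebra F L]

/-- The semilinear stabiliser of a transported cubic structure. -/
noncomputable def semiGrp [Finite Sp6] (e : (L × L) ≃ₗ[F] V6) : Subgroup Sp6 where
  carrier := {g | Semi ((e.symm : V6 →ₗ[F] L × L) ∘ₗ spEnd g ∘ₗ (e : L × L →ₗ[F] V6))}
  one_mem' := fun l => ⟨l, fun z => by simp [spEnd_one]⟩
  mul_mem' {a b} ha hb := fun l => by
    obtain ⟨l1, h1⟩ := hb l
    obtain ⟨l2, h2⟩ := ha l1
    refine ⟨l2, fun z => ?_⟩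
    have h1' := h1 z
    have h2' := h2 (e.symm (spEnd b (e z)))
    simp only [LinearMap.comp_apply, LinearEquiv.coe_coe, spEnd_mul, Module.End.mul_apply] at h1' h2' ⊢
    rw [show spEnd b (e (l • z)) = e (l1 • e.symm (spEnd b (e z))) from by rw [← h1', LinearEquiv.apply_symm_apply],
      h2', LinearEquiv.apply_symm_apply]
  inv_mem' {a} ha := by
    have hpow : ∀ k : ℕ, Semi ((e.symm : V6 →ₗ[F] L × L) ∘ₗ spEnd (a ^ k) ∘ₗ (e : L × L →ₗ[F] V6)) := by
      intro k
      induction k with
      | zero => exact fun l => ⟨l, fun z => by simp [spEnd_one]⟩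
      | succ k ih =>
        intro l
        obtain ⟨l1, h1⟩ := ha l
        obtain ⟨l2, h2⟩ := ih l1
        refine ⟨l2, fun z => ?_⟩
        have h1' := h1 z
        have h2' := h2 (e.symm (spEnd a (e z)))
        simp only [LinearMap.comp_apply, LinearEquiv.coe_coe, pow_succ, spEnd_mul, Module.End.mul_apply]
          at h1' h2' ⊢
        rw [show spEnd a (e (l • z)) = e (l1 • e.symm (spEnd a (e z))) from by
          rw [← h1', LinearEquiv.apply_symm_apply], h2', LinearEquiv.apply_symm_apply]
    have hinv : a⁻¹ = a ^ (orderOf a - 1) := by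
      apply inv_eq_of_mul_eq_one_right
      rw [← pow_succ', Nat.sub_add_cancel (orderOf_pos a), pow_orderOf_eq_one]
    show Semi _
    rw [hinv]
    exact hpow _

end K

theorem spB_single_pair : Cfsg.sympForm 3 F (Pi.single (Sum.inr 0) 1) (Pi.single (Sum.inl 0) 1) = 1 := by
  rw [← spB_apply, spB_single]
  simp [Matrix.J]

/-- `PSp₆(3ᵃ)` is covered by two subgroups. -/
theorem psp_six_cover [Fintype F] [CharP F 3] : TwoCover (Cfsg.PSp 3 F) := by
  classical
  haveI : Finite Sp6 := Subtype.finite
  have hdim : Module.finrank F V6 = 6 := by simp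
  have hA := spB_alt 3 F
  have hB := spB_nondeg 3 F
  obtain ⟨h0, hh0, hd0⟩ := exists_irreducible_of_degree (F := F) (d := 3) (by norm_num)
  haveI : Fact (Irreducible h0) := ⟨hh0⟩
  let L := AdjoinRoot h0
  haveI : Module.Finite F L := (AdjoinRoot.powerBasis hh0.ne_zero).finite
  haveI : Finite L := Module.finite_of_finite F
  have hL : Module.finrank F L = 3 := by
    rw [(AdjoinRoot.powerBasis hh0.ne_zero).finrank, AdjoinRoot.powerBasis_dim, hd0]
  obtain ⟨e0, he0⟩ := exists_alt_equiv (modelForm_alt (F := F) (L := L)) modelForm_nondeg hA hB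
    (by rw [model_finrank hL, hdim])
  let er : V6 := Pi.single (Sum.inr 0) 1
  let el : V6 := Pi.single (Sum.inl 0) 1
  let W0 : Submodule F V6 := Submodule.span F {er, el}
  let H : Subgroup Sp6 :=
    { carrier := {g | ∀ v ∈ W0, (g : Mat 3 F) *ᵥ v ∈ W0}
      one_mem' := fun v hv => by simpa using hv
      mul_mem' := fun {a b} ha hb v hv => by
        rw [Submonoid.coe_mul, ← Matrix.mulVec_mulVec]; exact ha _ (hb v hv)
      inv_mem' := fun {a} ha => by
        have hpow : ∀ k : ℕ, ∀ v ∈ W0, ((a ^ k : Sp6) : Mat 3 F) *ᵥ v ∈ W0 := by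
          intro k
          induction k with
          | zero => intro v hv; simpa using hv
          | succ k ih => intro v hv; rw [pow_succ, Submonoid.coe_mul, ← Matrix.mulVec_mulVec]; exact ih _ (ha v hv)
        have hinv : a⁻¹ = a ^ (orderOf a - 1) := by
          apply inv_eq_of_mul_eq_one_right
          rw [← pow_succ', Nat.sub_add_cancel (orderOf_pos a), pow_orderOf_eq_one]
        intro v hv
        rw [hinv]
        exact hpow _ v hv }
  refine TwoCover.quotient _ H (semiGrp e0) ?_ ?_ ?_ ?_ ?_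
  · intro z hz v hv
    obtain ⟨c, hc⟩ := (mem_center_iff z).mp hz
    rw [hc]; exact W0.smul_mem c hv
  · intro z hz l
    obtain ⟨c, hc⟩ := (mem_center_iff z).mp hz
    refine ⟨l, fun w => ?_⟩
    simp only [LinearMap.comp_apply, LinearEquiv.coe_coe, spEnd_apply, hc, map_smul, LinearEquiv.symm_apply_apply]
    exact smul_comm c l w
  · intro htop
    obtain ⟨P, hP1, -⟩ := sp_transitive_hyp (F := F) (m := 3) spB_single_pair
      (u' := Pi.single (Sum.inr 1) 1) (v' := Pi.single (Sum.inl 1) 1) (by
        rw [← spB_apply, spB_single]; simp [Matrix.J])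
    have hm : (P : Mat 3 F) *ᵥ er ∈ W0 :=
      (show P ∈ H from htop ▸ Subgroup.mem_top P) er (Submodule.subset_span (by simp))
    rw [hP1] at hm
    obtain ⟨p, r, hpr⟩ := Submodule.mem_span_pair.mp hm
    simpa [er, el] using congrFun hpr (Sum.inr 1)
  · intro htop
    let v := e0 (1, 0)
    have hv : v ≠ 0 := by simp [v]
    let θ : L := AdjoinRoot.root h0
    obtain ⟨l', hl'⟩ := (show T v (1 : F) ∈ semiGrp e0 from htop ▸ Subgroup.mem_top _) θ
    let f : (L × L) →ₗ[F] F := ((spB 3 F).flip v) ∘ₗ (e0 : L × L →ₗ[F] V6)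
    have hf : ∀ z, f z = Cfsg.sympForm 3 F (e0 z) v := fun z => by simp [f]
    have hT : ∀ z, e0.symm (spEnd (T v (1 : F)) (e0 z)) = z + f z • (1, 0) := fun z => by
      apply e0.injective
      rw [LinearEquiv.apply_symm_apply, spEnd_apply, T_mulVec, one_mul, map_add, map_smul, hf]
    have hl : ∀ z, θ • z + f (θ • z) • (1, 0) = l' • (z + f z • ((1, 0) : L × L)) := fun z => by
      have := hl' z
      simp only [LinearMap.comp_apply, LinearEquiv.coe_coe, hT] at this
      exact this
    -- a vector fixed together with its multiple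
    let g : (L × L) →ₗ[F] (Fin 2 → F) :=
      LinearMap.pi ![f, f ∘ₗ
        ({ toFun := fun z => θ • z, map_add' := smul_add θ, map_smul' := fun c z => smul_comm θ c z } :
          (L × L) →ₗ[F] L × L)]
    obtain ⟨z, hz, hz0⟩ : ∃ z, g z = 0 ∧ z ≠ 0 := by
      by_contra hcon
      push Not at hcon
      have hinj : Function.Injective g := (injective_iff_map_eq_zero g).mpr hcon
      have := LinearMap.finrank_le_finrank_of_injective hinj
      rw [model_finrank hL, Module.finrank_pi, Fintype.card_fin] at this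
      omega
    have z1 : f z = 0 := congrFun hz 0
    have z2 : f (θ • z) = 0 := by simpa [g] using congrFun hz 1
    have hθl : l' = θ := by
      have h1 := hl z
      simp only [z1, z2, zero_smul, add_zero] at h1
      by_contra hne
      exact hz0 ((smul_eq_zero.mp (show (θ - l') • z = 0 by rw [sub_smul, h1, sub_self])).resolve_left
        (sub_ne_zero.mpr (Ne.symm hne)))
    obtain ⟨w, hw⟩ : ∃ w, f w ≠ 0 := by
      obtain ⟨u, hu⟩ := sf_exists_one hv
      refine ⟨e0.symm u, ?_⟩
      rw [hf, LinearEquiv.apply_symm_apply, sf_swap, hu]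
      simp
    have h1 := congrArg Prod.fst (hl w)
    rw [hθl] at h1
    simp only [Prod.fst_add, Prod.smul_fst, smul_eq_mul, mul_add, mul_smul_comm, mul_one] at h1
    rw [← Algebra.algebraMap_eq_smul_one, Algebra.smul_def (f w)] at h1
    have h2 : algebraMap F L (f w) * θ = algebraMap F L (f (θ • w)) := by linear_combination -h1
    have hθ : θ = algebraMap F L (f (θ • w) / f w) := by
      rw [map_div₀, eq_div_iff ((map_ne_zero _).mpr hw), mul_comm, h2]
    have hroot : Polynomial.IsRoot h0 (f (θ • w) / f w) := by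
      apply (algebraMap F L).injective
      rw [map_zero, ← Polynomial.aeval_algebraMap_apply_eq_algebraMap_eval, ← hθ, AdjoinRoot.aeval_eq,
        AdjoinRoot.mk_self]
    have := Polynomial.natDegree_eq_of_degree_eq_some (n := 1)
      (Polynomial.degree_eq_one_of_irreducible_of_root hh0 hroot)
    omega
  · intro x
    have hxx : spEnd x * spEnd x⁻¹ = 1 := by rw [← spEnd_mul, mul_inv_cancel, spEnd_one]
    have hix : spEnd x⁻¹ * spEnd x = 1 := by rw [← spEnd_mul, inv_mul_cancel, spEnd_one]
    have hx : ∀ u v, spB 3 F (spEnd x u) (spEnd x v) = spB 3 F u v := fun u v => by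
      simp only [spEnd_apply]; exact toLin'_mem_isom x.2 u v
    rcases covered_or_semi (L := L) hL hA hB hdim hxx hix hx with ⟨a, b, hab, hxa, hxb⟩ | ⟨e, T', hT, he, hint⟩
    · set c := spB 3 F a b with hc
      have hone : Cfsg.sympForm 3 F (c⁻¹ • a) b = 1 := by
        rw [sf_smul_left, ← spB_apply, ← hc, inv_mul_cancel₀ hab]
      obtain ⟨P, hP1, hP2⟩ := sp_transitive_hyp (F := F) (m := 3) spB_single_pair hone
      refine ⟨P⁻¹, Or.inl fun v hv => ?_⟩
      have hback : ∀ w ∈ Submodule.span F ({a, b} : Set V6), ((P⁻¹ : Sp6) : Mat 3 F) *ᵥ w ∈ W0 := by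
        intro w hw
        obtain ⟨p, r, rfl⟩ := Submodule.mem_span_pair.mp hw
        have e1 : ((P⁻¹ : Sp6) : Mat 3 F) *ᵥ a = c • er := by
          have : a = c • ((P : Mat 3 F) *ᵥ er) := by rw [hP1, smul_inv_smul₀ hab]
          rw [this, Matrix.mulVec_smul, Matrix.mulVec_mulVec, ← Submonoid.coe_mul, inv_mul_cancel,
            Submonoid.coe_one, Matrix.one_mulVec]
        have e2 : ((P⁻¹ : Sp6) : Mat 3 F) *ᵥ b = el := by
          rw [← hP2, Matrix.mulVec_mulVec, ← Submonoid.coe_mul, inv_mul_cancel, Submonoid.coe_one,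
            Matrix.one_mulVec]
        rw [Matrix.mulVec_add, Matrix.mulVec_smul, Matrix.mulVec_smul, e1, e2]
        exact W0.add_mem (W0.smul_mem _ (W0.smul_mem _ (Submodule.subset_span (by simp))))
          (W0.smul_mem _ (Submodule.subset_span (by simp)))
      rw [inv_inv, Submonoid.coe_mul, Submonoid.coe_mul, ← Matrix.mulVec_mulVec, ← Matrix.mulVec_mulVec]
      refine hback _ ?_
      obtain ⟨p, r, rfl⟩ := Submodule.mem_span_pair.mp hv
      rw [Matrix.mulVec_add, Matrix.mulVec_smul, Matrix.mulVec_smul, hP1, hP2, Matrix.mulVec_add,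
        Matrix.mulVec_smul, Matrix.mulVec_smul, Matrix.mulVec_smul, ← spEnd_apply, ← spEnd_apply]
      exact Submodule.add_mem _ (Submodule.smul_mem _ _ (Submodule.smul_mem _ _ hxa)) (Submodule.smul_mem _ _ hxb)
    · let E : V6 ≃ₗ[F] V6 := e.symm.trans e0
      have hE : ∀ u v, spB 3 F (E u) (E v) = spB 3 F u v := fun u v => by
        show spB 3 F (e0 (e.symm u)) (e0 (e.symm v)) = _
        rw [he0, ← he, LinearEquiv.apply_symm_apply, LinearEquiv.apply_symm_apply]
      let P : Sp6 := (spEquiv 3 F).symm ⟨E, hE⟩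
      have hP : ∀ v, (P : Mat 3 F) *ᵥ v = E v := spEquiv_symm_mulVec _
      have hPi : ∀ v, ((P⁻¹ : Sp6) : Mat 3 F) *ᵥ v = E.symm v := fun v => by
        conv_lhs => rw [show v = (P : Mat 3 F) *ᵥ E.symm v by rw [hP, LinearEquiv.apply_symm_apply]]
        rw [Matrix.mulVec_mulVec, ← Submonoid.coe_mul, inv_mul_cancel, Submonoid.coe_one, Matrix.one_mulVec]
      refine ⟨P, Or.inr ?_⟩
      show Semi _
      have key : (e0.symm : V6 →ₗ[F] L × L) ∘ₗ spEnd (P * x * P⁻¹) ∘ₗ (e0 : L × L →ₗ[F] V6) = T' := by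
        refine LinearMap.ext fun z => ?_
        simp only [LinearMap.comp_apply, LinearEquiv.coe_coe, spEnd_apply, Submonoid.coe_mul, ← Matrix.mulVec_mulVec,
          hP, hPi]
        apply e.injective
        rw [hint, spEnd_apply]
        simp [E]
      rw [key]
      exact hT

end Cfsg.Agent.H55.Cover.SpSix
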