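import Cfsg.Agent.Symplectic.AltStd

/-!
Isometries of a six-dimensional symplectic space in characteristic three: either there is an invariant
non-degenerate plane, or `x + x⁻¹` generates a cubic field, or `x` has one of two unipotent normal forms.
-/

set_option autoImplicit false
set_option linter.style.haveILetI false
set_option linter.unusedSectionVars false

namespace Cfsg.Agent.H55.Cover.SpSix

open LinearMap (BilinForm)
open Polynomial

variable {F V : Type*} [Field F] [CharP F 3] [AddCommGroup V] [Module F V]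

theorem three_eq_zero : (3 : F) = 0 := by exact_mod_cast CharP.cast_eq_zero F 3

theorem neg_one_ne_zero' : (2 : F) ≠ 0 := by
  intro h
  exact one_ne_zero (α := F) (by linear_combination three_eq_zero (F := F) - h)

/-- There is an invariant non-degenerate plane. -/
def Covered (B : BilinForm F V) (x : Module.End F V) : Prop :=
  ∃ a b, B a b ≠ 0 ∧ x a ∈ Submodule.span F ({a, b} : Set V) ∧ x b ∈ Submodule.span F ({a, b} : Set V)

variable {B : BilinForm F V}

theorem alt_zero (hA : B.IsAlt) (v : V) : B v v = 0 := hA.self_eq_zero v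

theorem alt_neg (hA : B.IsAlt) (u v : V) : B u v = - B v u := by rw [← hA.neg_eq u v, neg_neg]

/-- Self-adjoint operators give alternating forms. -/
theorem sa_zero (hA : B.IsAlt) {A : Module.End F V} (h : ∀ u v, B (A u) v = B u (A v)) (v : V) :
    B v (A v) = 0 := by
  have h1 := h v v
  rw [alt_neg hA (A v) v] at h1
  exact (mul_eq_zero.mp (show (2 : F) * B v (A v) = 0 by linear_combination -h1)).resolve_left neg_one_ne_zero'

theorem sa_pow {A : Module.End F V} (h : ∀ u v, B (A u) v = B u (A v)) :
    ∀ (n : ℕ) (u v : V), B ((A ^ n) u) v = B u ((A ^ n) v) := by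
  intro n
  induction n with
  | zero => intro u v; simp
  | succ n ih =>
    intro u v
    conv_lhs => rw [pow_succ', Module.End.mul_apply, h, ih]
    rw [pow_succ, Module.End.mul_apply]

theorem sa_aeval {A : Module.End F V} (h : ∀ u v, B (A u) v = B u (A v)) (f : F[X]) (u v : V) :
    B (aeval A f u) v = B u (aeval A f v) := by
  induction f using Polynomial.induction_on' with
  | add a b ha hb => simp only [map_add, LinearMap.add_apply, ha, hb]
  | monomial n c =>
    simp only [aeval_monomial, Module.End.mul_apply, Module.algebraMap_end_apply, map_smul, LinearMap.smul_apply,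
      sa_pow h]

theorem exists_partner (hB : B.Nondegenerate) {a : V} (ha : a ≠ 0) : ∃ b, B a b ≠ 0 := by
  by_contra h
  push Not at h
  exact ha (hB.1 a h)

theorem li_pair (hA : B.IsAlt) {a b : V} (h : B a b ≠ 0) : LinearIndependent F ![a, b] := by
  rw [LinearIndependent.pair_iff]
  intro s t hst
  have k1 := congrArg (fun x => B x b) hst
  have k2 := congrArg (fun x => B a x) hst
  simp only [map_add, map_smul, map_zero, LinearMap.add_apply, LinearMap.smul_apply, smul_eq_mul,
    LinearMap.zero_apply, alt_zero hA, mul_zero, add_zero, zero_add, mul_eq_zero] at k1 k2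
  exact ⟨k1.resolve_right h, k2.resolve_right h⟩

theorem finrank_span_two {a b : V} (h : LinearIndependent F ![a, b]) :
    Module.finrank F (Submodule.span F ({a, b} : Set V)) = 2 := by
  have := finrank_span_eq_card h
  rwa [Matrix.range_cons, Matrix.range_cons, Matrix.range_empty, Set.union_empty, Set.singleton_union,
    Fintype.card_fin] at this

variable [FiniteDimensional F V]

theorem exists_ne_of_finrank {U : Submodule F V} {n : ℕ} (h : Module.finrank F U = n + 1) :
    ∃ a : U, a ≠ 0 := by
  haveI : Nontrivial U := Module.nontrivial_of_finrank_pos (R := F) (by omega)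
  exact exists_ne 0

/-- A stable plane on which the form is non-degenerate. -/
theorem covered_of_plane (hA : B.IsAlt) {x : Module.End F V} {U : Submodule F V}
    (hU : Module.finrank F U = 2) (hx : ∀ v ∈ U, x v ∈ U) {a b : V} (ha : a ∈ U) (hb : b ∈ U)
    (hab : B a b ≠ 0) : Covered B x := by
  have hsp : Submodule.span F ({a, b} : Set V) = U := by
    refine Submodule.eq_of_le_of_finrank_eq ?_ (by rw [finrank_span_two (li_pair hA hab), hU])
    rw [Submodule.span_le]
    rintro z (rfl | rfl)
    · exact ha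
    · exact hb
  exact ⟨a, b, hab, by rw [hsp]; exact hx a ha, by rw [hsp]; exact hx b hb⟩

/-- A stable non-degenerate four-space leaves a plane. -/
theorem covered_of_four (hA : B.IsAlt) (hB : B.Nondegenerate) (hdim : Module.finrank F V = 6)
    {x : Module.End F V} (hx : ∀ u v, B (x u) (x v) = B u v) (f : Fin 4 → V)
    (hnd : ∀ c : Fin 4 → F, (∀ j, B (f j) (∑ i, c i • f i) = 0) → c = 0)
    (hinv : ∀ i, x (f i) ∈ Submodule.span F (Set.range f)) : Covered B x := by
  let Φ : V →ₗ[F] (Fin 4 → F) := LinearMap.pi fun j => B (f j)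
  let Ψ : (Fin 4 → F) →ₗ[F] V := Fintype.linearCombination F f
  have hΦ : ∀ v j, Φ v j = B (f j) v := fun v j => rfl
  have hΨ : ∀ c, Ψ c = ∑ i, c i • f i := fun c => rfl
  have hinj : Function.Injective (Φ ∘ₗ Ψ) := by
    rw [injective_iff_map_eq_zero]
    intro c hc
    exact hnd c fun j => by rw [← hΨ, ← hΦ]; exact congrFun hc j
  have hsurj := (LinearMap.injective_iff_surjective (f := Φ ∘ₗ Ψ)).mp hinj
  let U := LinearMap.ker Φ
  have hU : ∀ v, v ∈ U ↔ ∀ j, B (f j) v = 0 := fun v => by
    rw [LinearMap.mem_ker]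
    exact ⟨fun h j => congrFun h j, fun h => funext h⟩
  have hrange : LinearMap.range Φ = ⊤ := LinearMap.range_eq_top.mpr fun y => by
    obtain ⟨c, hc⟩ := hsurj y
    exact ⟨Ψ c, hc⟩
  have hUd : Module.finrank F U = 2 := by
    have := LinearMap.finrank_range_add_finrank_ker Φ
    rw [hrange, finrank_top, Module.finrank_pi, Fintype.card_fin, hdim] at this
    show Module.finrank F (LinearMap.ker Φ) = 2
    omega
  have hli : LinearIndependent F f := by
    rw [Fintype.linearIndependent_iff]
    intro c hc i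
    exact congrFun (hnd c fun j => by rw [hc, map_zero]) i
  set W := Submodule.span F (Set.range f) with hW
  have hxinj : Function.Injective x := by
    rw [injective_iff_map_eq_zero]
    intro v hv
    exact hB.1 v fun w => by rw [← hx, hv, map_zero, LinearMap.zero_apply]
  have hmap : W.map x = W := by
    refine Submodule.eq_of_le_of_finrank_eq ?_ (Submodule.equivMapOfInjective x hxinj W).finrank_eq.symm
    rw [hW, Submodule.map_span, Submodule.span_le]
    rintro _ ⟨_, ⟨i, rfl⟩, rfl⟩
    exact hinv i
  have hUx : ∀ v ∈ U, x v ∈ U := by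
    intro v hv
    rw [hU] at hv ⊢
    intro j
    have : f j ∈ W.map x := by rw [hmap]; exact Submodule.subset_span ⟨j, rfl⟩
    obtain ⟨w, hw, hwj⟩ := Submodule.mem_map.mp this
    rw [← hwj, hx]
    obtain ⟨c, rfl⟩ := (Submodule.mem_span_range_iff_exists_fun F).mp hw
    simp [hv]
  obtain ⟨a, ha0⟩ : ∃ a : U, a ≠ 0 := exists_ne_of_finrank hUd
  obtain ⟨b, hb, hab⟩ : ∃ b ∈ U, B (a : V) b ≠ 0 := by
    by_contra h
    push Not at h
    refine ha0 (Subtype.ext (hB.1 _ fun v => ?_))
    obtain ⟨c, hc⟩ := hsurj (Φ v)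
    have hd : v - Ψ c ∈ U := by
      show Φ (v - Ψ c) = 0
      rw [map_sub, sub_eq_zero]; exact hc.symm
    rw [← sub_add_cancel v (Ψ c), map_add, h _ hd, zero_add, hΨ, map_sum]
    refine Finset.sum_eq_zero fun i _ => ?_
    rw [map_smul, alt_neg hA, (hU a).mp a.2 i, neg_zero, smul_zero]
  exact covered_of_plane hA hUd hUx a.2 hb hab

/-- Two orthogonal stable summands. -/
theorem covered_of_split (hA : B.IsAlt) (hB : B.Nondegenerate) (hdim : Module.finrank F V = 6)
    {x : Module.End F V} {U1 U2 : Submodule F V} (hc : IsCompl U1 U2)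
    (horth : ∀ u ∈ U1, ∀ v ∈ U2, B u v = 0) (h1 : ∀ v ∈ U1, x v ∈ U1) (h2 : ∀ v ∈ U2, x v ∈ U2)
    (hne1 : U1 ≠ ⊥) (hne2 : U2 ≠ ⊥) : Covered B x := by
  have key : ∀ {U U' : Submodule F V}, IsCompl U U' → (∀ u ∈ U, ∀ v ∈ U', B u v = 0) →
      (B.restrict U).Nondegenerate := by
    intro U U' hUU' ho
    have hsep : ∀ u : U, (∀ v : U, B (u : V) v = 0) → u = 0 := by
      intro u hu
      refine Subtype.ext (hB.1 _ fun v => ?_)
      obtain ⟨p, hp, r, hr, rfl⟩ := Submodule.mem_sup.mp (hUU'.sup_eq_top ▸ Submodule.mem_top : v ∈ U ⊔ U')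
      rw [map_add, ho _ u.2 r hr, add_zero]
      exact hu ⟨p, hp⟩
    exact ⟨fun u hu => hsep u hu, fun u hu => hsep u fun v => by
      rw [alt_neg hA]; exact neg_eq_zero.mpr (hu v)⟩
  have heven : ∀ {U U' : Submodule F V}, IsCompl U U' → (∀ u ∈ U, ∀ v ∈ U', B u v = 0) → U ≠ ⊥ →
      ∃ m, 1 ≤ m ∧ Module.finrank F U = 2 * m := by
    intro U U' hUU' ho hne
    obtain ⟨m, -, hm, -⟩ := Symplectic.exists_std_equiv (B := B.restrict U)
      (fun u => alt_zero hA (u : V)) (key hUU' ho)
    refine ⟨m, ?_, hm⟩
    by_contra h0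
    exact hne (Submodule.finrank_eq_zero.mp (by omega))
  have horth' : ∀ v ∈ U2, ∀ u ∈ U1, B v u = 0 := fun v hv u hu => by
    rw [alt_neg hA, horth u hu v hv, neg_zero]
  obtain ⟨m1, hm1, e1⟩ := heven hc horth hne1
  obtain ⟨m2, hm2, e2⟩ := heven hc.symm horth' hne2
  have hsum := Submodule.finrank_add_eq_of_isCompl hc
  have fin : ∀ {U U' : Submodule F V}, IsCompl U U' → (∀ u ∈ U, ∀ v ∈ U', B u v = 0) →
      (∀ v ∈ U, x v ∈ U) → Module.finrank F U = 2 → Covered B x := by
    intro U U' hUU' ho hst hd
    obtain ⟨a, ha⟩ : ∃ a : U, a ≠ 0 := exists_ne_of_finrank hd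
    obtain ⟨b, hb⟩ : ∃ b : U, B (a : V) b ≠ 0 := by
      by_contra h
      push Not at h
      exact ha ((key hUU' ho).1 a h)
    exact covered_of_plane hA hd hst a.2 b.2 hb
  rcases (show m1 = 1 ∨ m2 = 1 by omega) with e | e
  · exact fin hc horth h1 (by omega)
  · exact fin hc.symm horth' h2 (by omega)

/-- The vectors killed by a self-adjoint operator have degree at most three. -/
theorem degree_le_three (hA : B.IsAlt) (hB : B.Nondegenerate) (hdim : Module.finrank F V = 6)
    {y : Module.End F V} (hy : ∀ u v, B (y u) v = B u (y v)) (v : V) :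
    ∃ p : F[X], p ≠ 0 ∧ p.natDegree ≤ 3 ∧ aeval y p v = 0 := by
  by_contra hcon
  push Not at hcon
  let f : Fin 4 → V := fun i => (y ^ (i : ℕ)) v
  have hli : LinearIndependent F f := by
    rw [Fintype.linearIndependent_iff]
    intro c hc
    let p : F[X] := ∑ i : Fin 4, monomial (i : ℕ) (c i)
    have hp : p = 0 := by
      by_contra h0
      refine hcon p h0 ?_ ?_
      · exact natDegree_sum_le_of_forall_le _ _ fun i _ =>
          (natDegree_monomial_le (c i)).trans (Nat.le_of_lt_succ i.isLt)
      · rw [← hc]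
        simp [p, f, map_sum, aeval_monomial]
    intro i
    have := congrArg (fun q : F[X] => q.coeff (i : ℕ)) hp
    simpa [p, finsetSum_coeff, coeff_monomial, Fin.val_inj] using this
  have hti : Submodule.span F (Set.range f) ≤ B.orthogonal (Submodule.span F (Set.range f)) := by
    rw [Submodule.span_le]
    rintro _ ⟨j, rfl⟩
    rw [SetLike.mem_coe, LinearMap.BilinForm.mem_orthogonal_iff]
    intro w hw
    obtain ⟨c, rfl⟩ := (Submodule.mem_span_range_iff_exists_fun F).mp hw
    show B (∑ i, c i • f i) (f j) = 0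
    rw [map_sum, LinearMap.sum_apply]
    refine Finset.sum_eq_zero fun i _ => ?_
    rw [map_smul, LinearMap.smul_apply, sa_pow hy, ← Module.End.mul_apply, ← pow_add,
      sa_zero hA (sa_pow hy _), smul_zero]
  have h1 := Submodule.finrank_mono hti
  rw [LinearMap.BilinForm.finrank_orthogonal hB, finrank_span_eq_card hli, hdim, Fintype.card_fin] at h1
  omega

/-- The kernel of an irreducible quadratic is impossible in dimension six. -/
theorem no_quadratic (hA : B.IsAlt) (hB : B.Nondegenerate) (hdim : Module.finrank F V = 6)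
    {y : Module.End F V} (hy : ∀ u v, B (y u) v = B u (y v)) {h : F[X]} (hm : h.Monic) (hi : Irreducible h)
    (hd : h.natDegree = 2) (h0 : aeval y h = 0) : False := by
  have hq : ∀ v, y (y v) = -(h.coeff 0) • v - h.coeff 1 • y v := by
    intro v
    have e : h = X ^ 2 + (C (h.coeff 1) * X + C (h.coeff 0)) := by
      refine Polynomial.ext fun i => ?_
      rcases i with _ | _ | _ | i
      · simp
      · simp [coeff_C]
      · have : h.coeff 2 = 1 := by rw [← hd]; exact hm.coeff_natDegree
        simp [this, coeff_C]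
      · simp [coeff_eq_zero_of_natDegree_lt (show h.natDegree < i + 3 by omega), coeff_C, coeff_X]
    have := congrArg (fun T : Module.End F V => T v) h0
    rw [e] at this
    simp [Module.algebraMap_end_apply, pow_two] at this
    linear_combination (norm := module) this
  have hind : ∀ v : V, v ≠ 0 → LinearIndependent F ![v, y v] := by
    intro v hv
    rw [LinearIndependent.pair_iff' hv]
    intro c hc
    have hev : Module.End.HasEigenvector y c v := ⟨Module.End.mem_eigenspace_iff.mpr hc.symm, hv⟩
    have h2 := Module.End.aeval_apply_of_hasEigenvector (p := h) hev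
    rw [h0, LinearMap.zero_apply] at h2
    have := natDegree_eq_of_degree_eq_some (n := 1)
      (degree_eq_one_of_irreducible_of_root hi ((smul_eq_zero.mp h2.symm).resolve_right hv))
    omega
  haveI : Nontrivial V := Module.nontrivial_of_finrank_pos (R := F) (by omega)
  obtain ⟨v, hv⟩ := exists_ne (0 : V)
  obtain ⟨w, hw1, hw2⟩ : ∃ w, B v w = 1 ∧ B (y v) w = 0 := by
    let Φ : V →ₗ[F] (Fin 2 → F) := LinearMap.pi ![B v, B (y v)]
    have hs : Function.Surjective Φ := by
      rw [← LinearMap.range_eq_top]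
      by_contra hne
      obtain ⟨l, hl0, hl⟩ := Submodule.exists_le_ker_of_lt_top _ (lt_top_iff_ne_top.mpr hne)
      apply hl0
      have e : ∀ z, l ![1, 0] * B v z + l ![0, 1] * B (y v) z = 0 := fun z => by
        have h3 : l (Φ z) = 0 := LinearMap.mem_ker.mp (hl ⟨z, rfl⟩)
        rw [show Φ z = B v z • ![1, 0] + B (y v) z • ![0, 1] by
          funext i; fin_cases i <;> simp [Φ], map_add, map_smul, map_smul, smul_eq_mul, smul_eq_mul] at h3
        linear_combination h3
      have h4 := LinearIndependent.pair_iff.mp (hind v hv) (l ![1, 0]) (l ![0, 1]) (hB.1 _ fun z => by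
        simp only [map_add, map_smul, LinearMap.add_apply, LinearMap.smul_apply, smul_eq_mul, e z])
      refine LinearMap.ext fun z => ?_
      rw [show z = z 0 • ![1, 0] + z 1 • ![0, 1] by funext i; fin_cases i <;> simp, map_add, map_smul, map_smul,
        h4.1, h4.2]
      simp
    obtain ⟨w, hw⟩ := hs ![1, 0]
    exact ⟨w, congrFun hw 0, congrFun hw 1⟩
  have hne : h.coeff 0 ≠ 0 := by
    intro e
    have := natDegree_eq_of_degree_eq_some (n := 1) (degree_eq_one_of_irreducible_of_root hi (x := 0)
      (by rw [IsRoot.def, ← coeff_zero_eq_eval_zero, e]))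
    omega
  have hwv : B w v = -1 := by rw [alt_neg hA, hw1]
  have hwyv : B w (y v) = 0 := by rw [alt_neg hA, hw2, neg_zero]
  have hvyw : B v (y w) = 0 := by rw [← hy]; exact hw2
  have hywv : B (y w) v = 0 := by rw [alt_neg hA, hvyw, neg_zero]
  have hyvyw : B (y v) (y w) = -h.coeff 0 := by
    rw [← hy, hq]; simp [hw1, hw2]
  have hywyv : B (y w) (y v) = h.coeff 0 := by rw [alt_neg hA, hyvyw, neg_neg]
  let f : Fin 4 → V := ![v, y v, w, y w]
  let Φ : V →ₗ[F] (Fin 4 → F) := LinearMap.pi fun j => B (f j)
  have hU : ∀ z, z ∈ LinearMap.ker Φ ↔ ∀ j, B (f j) z = 0 := fun z => by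
    rw [LinearMap.mem_ker]
    exact ⟨fun h j => congrFun h j, fun h => funext h⟩
  have hgram : ∀ a b c d : F, Φ (a • v + b • y v + c • w + d • y w) =
      ![c, -(d * h.coeff 0), -a, b * h.coeff 0] := by
    intro a b c d
    have e0 : B v (y v) = 0 := sa_zero hA hy v
    have e1 : B (y v) v = 0 := by rw [alt_neg hA, e0, neg_zero]
    have e2 : B w (y w) = 0 := sa_zero hA hy w
    have e3 : B (y w) w = 0 := by rw [alt_neg hA, e2, neg_zero]
    funext j
    fin_cases j <;> simp [Φ, f, alt_zero hA, e0, e1, e2, e3, hw1, hw2, hwv, hwyv, hvyw, hywv, hyvyw, hywyv]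
  have hsurj : Function.Surjective Φ := fun g =>
    ⟨(-g 2) • v + (g 3 / h.coeff 0) • y v + g 0 • w + (-g 1 / h.coeff 0) • y w, by
      rw [hgram]
      funext j
      fin_cases j <;> simp [hne]⟩
  have hUd : Module.finrank F (LinearMap.ker Φ) = 2 := by
    have := LinearMap.finrank_range_add_finrank_ker Φ
    rw [LinearMap.range_eq_top.mpr hsurj, finrank_top, Module.finrank_pi, Fintype.card_fin, hdim] at this
    omega
  obtain ⟨z, hz0⟩ : ∃ z : LinearMap.ker Φ, z ≠ 0 := exists_ne_of_finrank hUd
  have hz := (hU z).mp z.2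
  have hyz : ∀ j, B (f j) (y z) = 0 := by
    intro j
    rw [← hy]
    have hb : ∀ j, B (f j) (z : V) = 0 := hz
    have b0 : B v (z : V) = 0 := hb 0
    have b1 : B (y v) (z : V) = 0 := hb 1
    have b2 : B w (z : V) = 0 := hb 2
    have b3 : B (y w) (z : V) = 0 := hb 3
    fin_cases j <;> simp [f, hq, b0, b1, b2, b3]
  have hliz : LinearIndependent F ![(z : V), y z] := hind _ (fun e => hz0 (Subtype.ext e))
  have hsp : Submodule.span F ({(z : V), y z} : Set V) = LinearMap.ker Φ := by
    refine Submodule.eq_of_le_of_finrank_eq ?_ (by rw [finrank_span_two hliz, hUd])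
    rw [Submodule.span_le]
    rintro _ (rfl | rfl)
    · exact z.2
    · exact (hU _).mpr hyz
  refine hz0 (Subtype.ext (hB.1 _ fun u => ?_))
  obtain ⟨a, b, c, d, hd'⟩ : ∃ a b c d : F, Φ (u - (a • v + b • y v + c • w + d • y w)) = 0 := by
    refine ⟨-(Φ u 2), Φ u 3 / h.coeff 0, Φ u 0, -(Φ u 1) / h.coeff 0, ?_⟩
    rw [map_sub, sub_eq_zero, hgram]
    funext j
    fin_cases j <;> simp [hne]
  obtain ⟨p, r, hpr⟩ := Submodule.mem_span_pair.mp
    (show u - (a • v + b • y v + c • w + d • y w) ∈ Submodule.span F ({(z : V), y z} : Set V) by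
      rw [hsp]; exact hd')
  rw [← sub_add_cancel u (a • v + b • y v + c • w + d • y w), ← hpr]
  have b0 : B (z : V) v = 0 := by rw [alt_neg hA, show B v (z : V) = 0 from hz 0, neg_zero]
  have b1 : B (z : V) (y v) = 0 := by rw [alt_neg hA, show B (y v) (z : V) = 0 from hz 1, neg_zero]
  have b2 : B (z : V) w = 0 := by rw [alt_neg hA, show B w (z : V) = 0 from hz 2, neg_zero]
  have b3 : B (z : V) (y w) = 0 := by rw [alt_neg hA, show B (y w) (z : V) = 0 from hz 3, neg_zero]
  simp [alt_zero hA, sa_zero hA hy, b0, b1, b2, b3]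

/-- The main trichotomy. -/
theorem split_cases (hA : B.IsAlt) (hB : B.Nondegenerate) (hdim : Module.finrank F V = 6)
    {x xi : Module.End F V} (hxx : x * xi = 1) (hix : xi * x = 1) (hx : ∀ u v, B (x u) (x v) = B u v) :
    Covered B x ∨ (∃ h : F[X], h.Monic ∧ Irreducible h ∧ h.natDegree = 3 ∧ aeval (x + xi) h = 0) ∨
      ∃ t : F, (x + xi - t • 1) ^ 3 = 0 := by
  classical
  set y := x + xi with hydef
  have hadj : ∀ u v, B (x u) v = B u (xi v) := fun u v => by
    conv_lhs => rw [show v = x (xi v) by rw [← Module.End.mul_apply, hxx, Module.End.one_apply], hx]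
  have hadj' : ∀ u v, B (xi u) v = B u (x v) := fun u v => by
    rw [alt_neg hA, ← hadj, alt_neg hA (x v), neg_neg]
  have hy : ∀ u v, B (y u) v = B u (y v) := fun u v => by
    simp only [hydef, LinearMap.add_apply, map_add, LinearMap.add_apply, hadj, hadj']
    rw [add_comm]
  have hxy : Commute x y := by
    show x * (x + xi) = (x + xi) * x
    rw [mul_add, add_mul, hxx, hix]
  set m := minpoly F y with hm
  have hint : IsIntegral F y := IsIntegral.of_finite F y
  have hmm : m.Monic := minpoly.monic hint
  haveI : Nontrivial V := Module.nontrivial_of_finrank_pos (R := F) (by omega)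
  obtain ⟨h, hhm, hhi, hhd⟩ := Polynomial.exists_monic_irreducible_factor m (minpoly.not_isUnit F y)
  obtain ⟨r, hkr, hr⟩ := (FiniteMultiplicity.of_not_isUnit hhi.not_isUnit hmm.ne_zero).exists_eq_pow_mul_and_not_dvd
  generalize multiplicity h m = k at hkr hr
  have hrm : r.Monic := (hhm.pow k).of_mul_monic_left (hkr ▸ hmm)
  by_cases hr1 : r.natDegree = 0
  swap
  · left
    have hcop : IsCoprime (h ^ k) r := (hhi.coprime_iff_not_dvd.mpr hr).pow_left
    let U1 := LinearMap.ker (aeval y (h ^ k))
    let U2 := LinearMap.ker (aeval y r)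
    obtain ⟨a, b, hab⟩ := hcop
    have h0 : ∀ v, aeval y (h ^ k) (aeval y r v) = 0 := fun v => by
      rw [← Module.End.mul_apply, ← map_mul, ← hkr, hm, minpoly.aeval, LinearMap.zero_apply]
    have h0' : ∀ v, aeval y r (aeval y (h ^ k) v) = 0 := fun v => by
      rw [← Module.End.mul_apply, ← map_mul, mul_comm, ← hkr, hm, minpoly.aeval, LinearMap.zero_apply]
    have hid : ∀ v, aeval y a (aeval y (h ^ k) v) + aeval y b (aeval y r v) = v := fun v => by
      rw [← Module.End.mul_apply, ← Module.End.mul_apply, ← map_mul, ← map_mul, ← LinearMap.add_apply, ← map_add,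
        hab, map_one, Module.End.one_apply]
    have hcomm : ∀ (f g : F[X]) v, aeval y f (aeval y g v) = aeval y g (aeval y f v) := fun f g v => by
      rw [← Module.End.mul_apply, ← Module.End.mul_apply, ← map_mul, ← map_mul, mul_comm]
    have hst : ∀ (f : F[X]) v, aeval y f (x v) = x (aeval y f v) := fun f v => by
      rw [← Module.End.mul_apply, ← Module.End.mul_apply]
      exact congrArg (fun T : Module.End F V => T v) (Algebra.commute_of_mem_adjoin_singleton_of_commute
        (aeval_mem_adjoin_singleton F y) hxy).symm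
    have hlt : ∀ g : F[X], g.Monic → g.natDegree < m.natDegree → aeval y g ≠ 0 := fun g hg hgd e => by
      have := natDegree_le_natDegree (minpoly.min F y hg e)
      rw [← hm] at this; omega
    have hdm : m.natDegree = (h ^ k).natDegree + r.natDegree := by rw [hkr, (hhm.pow k).natDegree_mul hrm]
    have hk0 : (h ^ k).natDegree ≠ 0 := by
      rw [natDegree_pow]
      have := hhi.natDegree_pos
      rcases Nat.eq_zero_or_pos k with rfl | hk
      · exact absurd (by rw [hkr, pow_zero, one_mul] at hhd; exact hhd) hr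
      · exact (Nat.mul_pos hk this).ne'
    refine covered_of_split hA hB hdim (U1 := U1) (U2 := U2) ?_ ?_ ?_ ?_ ?_ ?_
    · refine ⟨Submodule.disjoint_def.mpr fun v h1 h2 => ?_, codisjoint_iff.mpr (eq_top_iff.mpr fun v _ => ?_)⟩
      · rw [LinearMap.mem_ker] at h1 h2
        rw [← hid v, h1, h2, map_zero, map_zero, add_zero]
      · rw [← hid v, add_comm]
        refine Submodule.add_mem_sup ?_ ?_
        · show aeval y (h ^ k) _ = 0
          rw [hcomm, h0, map_zero]
        · show aeval y r _ = 0
          rw [hcomm, h0', map_zero]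
    · intro u hu v hv
      rw [LinearMap.mem_ker] at hu hv
      rw [← hid u, hu, map_zero, zero_add, sa_aeval hy, sa_aeval hy, hcomm, hv, map_zero, map_zero]
    · intro v hv
      show aeval y (h ^ k) (x v) = 0
      rw [hst, LinearMap.mem_ker.mp hv, map_zero]
    · intro v hv
      show aeval y r (x v) = 0
      rw [hst, LinearMap.mem_ker.mp hv, map_zero]
    · intro e
      refine hlt r hrm (by omega) (LinearMap.ext fun v => ?_)
      have : aeval y r v ∈ U1 := h0 v
      rw [e, Submodule.mem_bot] at this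
      rw [this, LinearMap.zero_apply]
    · intro e
      refine hlt (h ^ k) (hhm.pow k) (by omega) (LinearMap.ext fun v => ?_)
      have : aeval y (h ^ k) v ∈ U2 := h0' v
      rw [e, Submodule.mem_bot] at this
      rw [this, LinearMap.zero_apply]
  · rw [hrm.natDegree_eq_zero.mp hr1, mul_one] at hkr
    have hk : k * h.natDegree ≤ 3 ∧ 1 ≤ k := by
      have hk1 : 1 ≤ k := by
        by_contra h0
        obtain rfl : k = 0 := by omega
        rw [pow_zero] at hkr
        exact minpoly.ne_one F y hkr
      refine ⟨?_, hk1⟩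
      have hne : aeval y (h ^ (k - 1)) ≠ 0 := fun e => by
        have := natDegree_le_natDegree (minpoly.min F y (hhm.pow (k - 1)) e)
        rw [← hm, hkr, natDegree_pow, natDegree_pow] at this
        have := Nat.le_of_mul_le_mul_right this hhi.natDegree_pos
        omega
      obtain ⟨v, hv⟩ : ∃ v, aeval y (h ^ (k - 1)) v ≠ 0 := by
        by_contra hall
        push Not at hall
        exact hne (LinearMap.ext hall)
      obtain ⟨p, hp0, hpd, hpv⟩ := degree_le_three hA hB hdim hy v
      by_contra hlt
      have hnd : ¬ h ^ k ∣ p := fun hd => by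
        have := natDegree_le_of_dvd hd hp0
        rw [natDegree_pow] at this
        omega
      obtain ⟨a, b, hab⟩ : ∃ a b, a * p + b * h ^ k = EuclideanDomain.gcd p (h ^ k) :=
        ⟨EuclideanDomain.gcdA p (h ^ k), EuclideanDomain.gcdB p (h ^ k), by
          rw [EuclideanDomain.gcd_eq_gcd_ab]; ring⟩
      obtain ⟨i, hik, hi⟩ := (dvd_prime_pow hhi.prime k).mp (EuclideanDomain.gcd_dvd_right p (h ^ k))
      have hik' : i ≤ k - 1 := by
        rcases Nat.lt_or_ge i k with hik2 | hik2
        · omega
        · exact absurd ((pow_dvd_pow h hik2).trans (hi.symm.dvd.trans (EuclideanDomain.gcd_dvd_left p _))) hnd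
      apply hv
      obtain ⟨c, hc⟩ : EuclideanDomain.gcd p (h ^ k) ∣ h ^ (k - 1) := hi.dvd.trans (pow_dvd_pow h hik')
      rw [hc, ← hab, add_mul, map_add, LinearMap.add_apply]
      rw [show a * p * c = a * c * p by ring, show b * h ^ k * c = b * c * h ^ k by ring, map_mul (aeval y) (a * c) p, map_mul (aeval y) (b * c) (h ^ k),
        Module.End.mul_apply, Module.End.mul_apply, hpv, map_zero, ← hkr, hm, minpoly.aeval,
        LinearMap.zero_apply, map_zero, add_zero]
    have hy0 : aeval y (h ^ k) = 0 := by rw [← hkr, hm, minpoly.aeval]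
    have hhp := hhi.natDegree_pos
    have hh3 : h.natDegree ≤ 3 := (Nat.le_mul_of_pos_left _ hk.2).trans hk.1
    rcases (show h.natDegree = 1 ∨ h.natDegree = 2 ∨ h.natDegree = 3 by omega) with e | e | e
    · right; right
      refine ⟨-h.coeff 0, ?_⟩
      have e2 : h = X + C (h.coeff 0) := hhm.eq_X_add_C e
      have h3 : aeval y (h ^ 3) = 0 := by
        rw [show h ^ 3 = h ^ (3 - k) * h ^ k by rw [← pow_add, Nat.sub_add_cancel (by nlinarith [hk.1])],
          map_mul, hy0, mul_zero]
      rw [e2, map_pow, map_add, aeval_X, aeval_C, Algebra.algebraMap_eq_smul_one] at h3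
      rwa [neg_smul, sub_neg_eq_add]
    · exfalso
      obtain rfl : k = 1 := by nlinarith [hk.1, hk.2]
      rw [pow_one] at hy0
      exact no_quadratic hA hB hdim hy hhm hhi e hy0
    · right; left
      obtain rfl : k = 1 := by nlinarith [hk.1, hk.2]
      rw [pow_one] at hy0
      exact ⟨h, hhm, hhi, e, hy0⟩

end Cfsg.Agent.H55.Cover.SpSix
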