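import Cfsg.Agent.H55.Cover.SpSixForm

/-!
Normal forms of isometries whose `x + x⁻¹` has a single eigenvalue, in characteristic three.
-/

set_option autoImplicit false
set_option linter.style.haveILetI false
set_option linter.unusedSectionVars false

namespace Cfsg.Agent.H55.Cover.SpSix

open LinearMap (BilinForm)
open Polynomial

variable {F V V' : Type*} [Field F] [CharP F 3] [AddCommGroup V] [Module F V] [FiniteDimensional F V]
  [AddCommGroup V'] [Module F V'] [FiniteDimensional F V']
variable {B : BilinForm F V} {B' : BilinForm F V'}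

theorem two_eq : (2 : F) = -1 := by linear_combination three_eq_zero (F := F)

/-- An antidiagonal Gram matrix. -/
def anti (d : Fin 6 → F) (i j : Fin 6) : F := if j = i.rev then d i else 0

theorem indep_of_anti {f : Fin 6 → V} {d : Fin 6 → F} (hd : ∀ i, d i ≠ 0)
    (hg : ∀ i j, B (f i) (f j) = anti d i j) : LinearIndependent F f := by
  rw [Fintype.linearIndependent_iff]
  intro c hc i
  have h1 := congrArg (fun z => B z (f i.rev)) hc
  simp only [map_sum, LinearMap.sum_apply, map_smul, LinearMap.smul_apply, hg, anti, map_zero,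
    LinearMap.zero_apply, smul_eq_mul, mul_ite, mul_zero, Fin.rev_inj, Finset.sum_ite_eq, Finset.mem_univ,
    if_true] at h1
  exact (mul_eq_zero.mp h1).resolve_right (hd i)

/-- Bases with the same antidiagonal Gram matrix give an isometry. -/
theorem exists_iso (hV : Module.finrank F V = 6) (hV' : Module.finrank F V' = 6) (f : Fin 6 → V)
    (f' : Fin 6 → V') (d : Fin 6 → F) (hd : ∀ i, d i ≠ 0) (hg : ∀ i j, B (f i) (f j) = anti d i j)
    (hg' : ∀ i j, B' (f' i) (f' j) = anti d i j) :
    ∃ e : V ≃ₗ[F] V', (∀ u v, B' (e u) (e v) = B u v) ∧ (∀ i, e (f i) = f' i) ∧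
      ∀ (T : Module.End F V) (T' : Module.End F V'), (∀ i, e (T (f i)) = T' (f' i)) → ∀ v, e (T v) = T' (e v) := by
  let b := basisOfLinearIndependentOfCardEqFinrank (indep_of_anti (B := B) hd hg) (by rw [hV, Fintype.card_fin])
  let b' := basisOfLinearIndependentOfCardEqFinrank (indep_of_anti (B := B') hd hg') (by rw [hV', Fintype.card_fin])
  have hb : ∀ i, b i = f i := fun i => by simp [b]
  have hb' : ∀ i, b' i = f' i := fun i => by simp [b']
  let e := b.equiv b' (Equiv.refl _)
  have he : ∀ i, e (f i) = f' i := fun i => by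
    rw [← hb, Module.Basis.equiv_apply, Equiv.refl_apply, hb']
  refine ⟨e, fun u v => ?_, he, fun T T' h v => ?_⟩
  · have key : B'.comp (e : V →ₗ[F] V') (e : V →ₗ[F] V') = B := by
      refine LinearMap.BilinForm.ext_basis b fun i j => ?_
      rw [LinearMap.BilinForm.comp_apply, hb, hb, LinearEquiv.coe_coe, he, he, hg, hg']
    exact LinearMap.congr_fun (LinearMap.congr_fun key u) v
  · have key : (e : V →ₗ[F] V') ∘ₗ T = T' ∘ₗ (e : V →ₗ[F] V') := by
      refine b.ext fun i => ?_
      simp only [LinearMap.comp_apply, LinearEquiv.coe_coe, hb, h, he]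
    exact LinearMap.congr_fun key v

/-- The action of the semisimple part on a pair. -/
def SRel (t : F) (s : Module.End F V) (a b : V) : Prop :=
  (t ^ 2 = 1 → s a = (-t) • a ∧ s b = (-t) • b) ∧ (t ^ 2 ≠ 1 → s a = b ∧ s b = -a + t • b)

/-- Two Jordan blocks of size three. -/
def NF3 (B : BilinForm F V) (t : F) (x : Module.End F V) : Prop :=
  ∃ (s M : Module.End F V) (a b : V), x = s * (1 - M - M * M) ∧ Commute s M ∧ SRel t s a b ∧
    M (M (M a)) = 0 ∧ M (M (M b)) = 0 ∧
    ∀ i j, B (![a, b, M a, M b, M (M a), M (M b)] i) (![a, b, M a, M b, M (M a), M (M b)] j) =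
      anti ![1, -1, -1, 1, 1, -1] i j

/-- One Jordan block of size six. -/
def NF5 (B : BilinForm F V) (t c : F) (x : Module.End F V) : Prop :=
  ∃ (M : Module.End F V) (w : V), x = (-t) • (1 - M - M * M + M * M * M * M) ∧ M ^ 6 = 0 ∧
    ∀ i j : Fin 6, B ((M ^ (i : ℕ)) w) ((M ^ (j : ℕ)) w) = anti (fun k => (-1) ^ ((k : ℕ) + 1) * c) i j

theorem NF3.iso (hV : Module.finrank F V = 6) (hV' : Module.finrank F V' = 6) {t : F} {x : Module.End F V}
    {x' : Module.End F V'} (h : NF3 B t x) (h' : NF3 B' t x') :
    ∃ e : V ≃ₗ[F] V', (∀ u v, B' (e u) (e v) = B u v) ∧ ∀ v, e (x v) = x' (e v) := by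
  obtain ⟨s, M, a, b, hx, hsM, hs, hMa, hMb, hg⟩ := h
  obtain ⟨s', M', a', b', hx', hsM', hs', hMa', hMb', hg'⟩ := h'
  obtain ⟨e, he, hef, hint⟩ := exists_iso hV hV' _ _ _ (fun i => by fin_cases i <;> simp) hg hg'
  have e0 : e a = a' := hef 0
  have e1 : e b = b' := hef 1
  have e2 : e (M a) = M' a' := hef 2
  have e3 : e (M b) = M' b' := hef 3
  have e4 : e (M (M a)) = M' (M' a') := hef 4
  have e5 : e (M (M b)) = M' (M' b') := hef 5
  have hM : ∀ v, e (M v) = M' (e v) := hint M M' fun i => by
    fin_cases i <;> simp [e2, e3, e4, e5, hMa, hMb, hMa', hMb']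
  have hc : ∀ v, s (M v) = M (s v) := fun v => by
    rw [← Module.End.mul_apply, hsM.eq, Module.End.mul_apply]
  have hc' : ∀ v, s' (M' v) = M' (s' v) := fun v => by
    rw [← Module.End.mul_apply, hsM'.eq, Module.End.mul_apply]
  have hS : ∀ v, e (s v) = s' (e v) := hint s s' fun i => by
    by_cases ht : t ^ 2 = 1
    · obtain ⟨p, r⟩ := hs.1 ht
      obtain ⟨p', r'⟩ := hs'.1 ht
      fin_cases i <;> simp [hc, hc', p, r, p', r', e0, e1, e2, e3, e4, e5]
    · obtain ⟨p, r⟩ := hs.2 ht
      obtain ⟨p', r'⟩ := hs'.2 ht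
      fin_cases i <;> simp [hc, hc', p, r, p', r', e0, e1, e2, e3, e4, e5]
  exact ⟨e, he, fun v => by simp [hx, hx', hM, hS]⟩

theorem NF5.iso (hV : Module.finrank F V = 6) (hV' : Module.finrank F V' = 6) {t c : F} (hc : c ≠ 0)
    {x : Module.End F V} {x' : Module.End F V'} (h : NF5 B t c x) (h' : NF5 B' t c x') :
    ∃ e : V ≃ₗ[F] V', (∀ u v, B' (e u) (e v) = B u v) ∧ ∀ v, e (x v) = x' (e v) := by
  obtain ⟨M, w, hx, hM6, hg⟩ := h
  obtain ⟨M', w', hx', hM6', hg'⟩ := h'
  obtain ⟨e, he, hef, hint⟩ := exists_iso hV hV' _ _ _ (fun i => mul_ne_zero (pow_ne_zero _ (by simp)) hc) hg hg'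
  have hM : ∀ v, e (M v) = M' (e v) := hint M M' fun i => by
    rw [← Module.End.mul_apply, ← Module.End.mul_apply, ← pow_succ', ← pow_succ']
    by_cases hi : (i : ℕ) + 1 < 6
    · exact hef ⟨_, hi⟩
    · rw [show (i : ℕ) + 1 = 6 by omega, hM6, hM6']; simp
  exact ⟨e, he, fun v => by simp [hx, hx', hM]⟩

variable (hA : B.IsAlt) (hB : B.Nondegenerate) (hdim : Module.finrank F V = 6)
include hA

/-- A pair adapted to an invariant alternating form on a stable subspace. -/
theorem exists_pair {s : Module.End F V} {t : F} (hsadj : ∀ a b, B (s a) b = B a (t • b - s b))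
    (hs2 : ∀ v, s (s v) = t • s v - v) (hsc : t ^ 2 = 1 → ∀ v, s v = (-t) • v) {N : Module.End F V}
    (hN : Commute s N) {U : Submodule F V} (hU : ∀ v ∈ U, s v ∈ U) (halt : ∀ v ∈ U, B (N v) v = 0)
    {a0 b0 : V} (ha0 : a0 ∈ U) (hb0 : b0 ∈ U) (h0 : B (N a0) b0 ≠ 0) :
    ∃ a ∈ U, ∃ b ∈ U, B (N a) b ≠ 0 ∧ SRel t s a b := by
  by_cases ht : t ^ 2 = 1
  · exact ⟨a0, ha0, b0, hb0, h0, fun _ => ⟨hsc ht _, hsc ht _⟩, fun h => absurd ht h⟩
  by_contra hcon
  have hz : ∀ a ∈ U, B (N a) (s a) = 0 := by
    intro a ha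
    by_contra h
    exact hcon ⟨a, ha, s a, hU a ha, h, fun h' => absurd h' ht, fun _ => ⟨rfl, by rw [hs2]; abel⟩⟩
  have hanti : ∀ a ∈ U, ∀ b ∈ U, B (N a) b = - B (N b) a := by
    intro a ha b hb
    have h1 := halt _ (U.add_mem ha hb)
    simp only [map_add, LinearMap.add_apply, halt a ha, halt b hb] at h1
    linear_combination h1
  have hrel : ∀ a ∈ U, ∀ b ∈ U, 2 * B (N a) (s b) = t * B (N a) b := by
    intro a ha b hb
    have h1 := hz _ (U.add_mem ha hb)
    simp only [map_add, LinearMap.add_apply, hz a ha, hz b hb] at h1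
    have h2 := hanti (s a) (hU a ha) b hb
    have h3 : B (N (s a)) b = B (N a) (t • b - s b) := by
      rw [← hsadj, ← Module.End.mul_apply, ← hN.eq, Module.End.mul_apply]
    rw [h3, map_sub, map_smul, smul_eq_mul] at h2
    linear_combination h1 - h2
  apply h0
  have e1 := hrel a0 ha0 b0 hb0
  have e2 := hrel a0 ha0 (s b0) (hU b0 hb0)
  rw [hs2, map_sub, map_smul, smul_eq_mul] at e2
  have e3 : (t ^ 2 - 1) * B (N a0) b0 = 0 := by
    linear_combination 2 * e2 - t * e1 + (B (N a0) b0) * (three_eq_zero (F := F))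
  exact (mul_eq_zero.mp e3).resolve_left (sub_ne_zero.mpr ht)

include hB hdim

/-- Two blocks of size three or an invariant plane. -/
theorem covered_or_NF3 [Fintype F] {s u : Module.End F V} {t : F} (hs : ∀ a b, B (s a) (s b) = B a b)
    (hu : ∀ a b, B (u a) (u b) = B a b) (hsu : Commute s u) (hss : s * (t • 1 - s) = 1)
    (hsc : t ^ 2 = 1 → ∀ v, s v = (-t) • v) (hu3 : u ^ 3 = 1) :
    (Covered B (s * u) ∧ ¬ ((∀ a b, u a = a → u b = b → B a b = 0) ∧ (u - 1) ^ 2 ≠ 0)) ∨ NF3 B t (s * u) := by
  haveI : Nontrivial V := Module.nontrivial_of_finrank_pos (R := F) (by omega)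
  haveI : CharP (Module.End F V) 3 := charP_of_injective_algebraMap (algebraMap F (Module.End F V)).injective 3
  have hs2 : ∀ v, s (s v) = t • s v - v := fun v => by
    have h1 := congrArg (fun T : Module.End F V => T v) hss
    simp only [Module.End.mul_apply, LinearMap.sub_apply, LinearMap.smul_apply, Module.End.one_apply, map_sub,
      map_smul] at h1
    linear_combination (norm := module) -h1
  have hsadj : ∀ a b, B (s a) b = B a (t • b - s b) := fun a b => by
    conv_rhs => rw [← hs]
    congr 1
    have h1 := congrArg (fun T : Module.End F V => T b) hss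
    simp only [Module.End.mul_apply, LinearMap.sub_apply, LinearMap.smul_apply, Module.End.one_apply] at h1
    exact h1.symm
  set M := u - u * u with hMdef
  have hsM : Commute s M := hsu.sub_right (hsu.mul_right hsu)
  have hu3' : u * u * u = 1 := by rw [← hu3, pow_three]; rw [mul_assoc]
  have huadj : ∀ a b, B (u a) b = B a (u (u b)) := fun a b => by
    conv_rhs => rw [← hu]
    congr 1
    have h1 := congrArg (fun T : Module.End F V => T b) hu3'
    simp only [Module.End.mul_apply, Module.End.one_apply] at h1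
    exact h1.symm
  have hMv : ∀ v, M v = u v - u (u v) := fun v => rfl
  have huuu : ∀ v, u (u (u v)) = v := fun v => by
    have h1 := congrArg (fun T : Module.End F V => T v) hu3'
    simpa using h1
  have hskew : ∀ a b, B a (M b) = - B (M a) b := fun a b => by
    simp only [hMv, map_sub, LinearMap.sub_apply, huadj, huuu]
    ring
  have h3e : (3 : Module.End F V) = 0 := by exact_mod_cast CharP.cast_eq_zero (Module.End F V) 3
  have hM3 : M * M * M = 0 := by
    have e : M = u * (1 - u) := by rw [hMdef, mul_sub, mul_one]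
    have hc : Commute u (1 - u) := (Commute.one_right u).sub_right (Commute.refl u)
    have : M ^ 3 = 0 := by
      rw [e, hc.mul_pow, sub_pow_char_of_commute (p := 3) (Commute.one_left u), one_pow, hu3, sub_self, mul_zero]
    rwa [pow_three, ← mul_assoc] at this
  have huM : u = 1 - M - M * M := by
    refine LinearMap.ext fun v => ?_
    have h4 : (3 : F) • (u v - v) = 0 := by rw [three_eq_zero, zero_smul]
    simp only [LinearMap.sub_apply, Module.End.one_apply, Module.End.mul_apply, hMv, map_sub, huuu]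
    linear_combination (norm := module) h4
  have hM3v : ∀ v, M (M (M v)) = 0 := fun v => by
    have h1 := congrArg (fun T : Module.End F V => T v) hM3
    simpa using h1
  have hxv : ∀ v, (s * u) v = s v - s (M v) - s (M (M v)) := fun v => by
    rw [huM]; simp
  have hsMv : ∀ v, s (M v) = M (s v) := fun v => by
    rw [← Module.End.mul_apply, hsM.eq, Module.End.mul_apply]
  by_cases hker : ∀ a b, M a = 0 → M b = 0 → B a b = 0
  swap
  · left
    push Not at hker
    obtain ⟨a0, b0, ha0, hb0, h0⟩ := hker
    refine ⟨?_, fun h => h0 (h.1 a0 b0 ?_ ?_)⟩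
    rotate_left
    · rw [huM]; simp [ha0]
    · rw [huM]; simp [hb0]
    obtain ⟨a, ha, b, hb, hab, hrel⟩ := exists_pair hA hsadj hs2 hsc (N := 1) (Commute.one_right s)
      (U := LinearMap.ker M) (fun v hv => by
        rw [LinearMap.mem_ker] at hv ⊢; rw [← hsMv, hv, map_zero])
      (fun v _ => alt_zero hA v) ha0 hb0 h0
    rw [LinearMap.mem_ker] at ha hb
    refine ⟨a, b, hab, ?_⟩
    rw [hxv, hxv]
    simp only [ha, hb, map_zero, sub_zero]
    by_cases ht : t ^ 2 = 1
    · rw [(hrel.1 ht).1, (hrel.1 ht).2]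
      exact ⟨Submodule.smul_mem _ _ (Submodule.subset_span (by simp)),
        Submodule.smul_mem _ _ (Submodule.subset_span (by simp))⟩
    · rw [(hrel.2 ht).1, (hrel.2 ht).2]
      exact ⟨Submodule.subset_span (by simp), Submodule.mem_span_pair.mpr ⟨-1, t, by rw [neg_one_smul]⟩⟩
  have hsym : ∀ a b, B (M a) b = B (M b) a := fun a b => by
    rw [alt_neg hA (M a), hskew, neg_neg]
  by_cases hMM : M * M = 0
  · left
    have hMMv : ∀ v, M (M v) = 0 := fun v => by
      rw [← Module.End.mul_apply, hMM, LinearMap.zero_apply]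
    refine ⟨?_, fun h => h.2 (LinearMap.ext fun v => ?_)⟩
    rotate_left
    · rw [huM]; simp [pow_two, hMMv]
    obtain ⟨a, ha⟩ : ∃ a, B (M a) a ≠ 0 := by
      by_contra h
      push Not at h
      have hM0 : ∀ v, M v = 0 := fun v => hB.1 _ fun w => by
        have h1 := h (v + w)
        simp only [map_add, LinearMap.add_apply, h v, h w, hsym w v] at h1
        exact (mul_eq_zero.mp (show (2 : F) * B (M v) w = 0 by linear_combination h1)).resolve_left
          neg_one_ne_zero'
      obtain ⟨z, hz⟩ := exists_ne (0 : V)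
      obtain ⟨w, hw⟩ := exists_partner hB hz
      exact hw (hker z w (hM0 z) (hM0 w))
    by_cases ht : t ^ 2 = 1
    · refine covered_of_plane hA (U := Submodule.span F ({M a, a} : Set V)) (finrank_span_two (li_pair hA ha)) ?_
        (Submodule.subset_span (by simp)) (Submodule.subset_span (by simp)) ha
      intro v hv
      obtain ⟨p, r, rfl⟩ := Submodule.mem_span_pair.mp hv
      rw [hxv, hsc ht, hsc ht, hsc ht]
      simp only [map_add, map_smul, hMMv, smul_zero, zero_add, add_zero, sub_zero]
      exact Submodule.mem_span_pair.mpr ⟨-t * p + t * r, -t * r, by module⟩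
    · refine covered_of_four hA hB hdim (fun p r => by
        simp only [Module.End.mul_apply, hs, hu]) ![a, s a, M a, M (s a)] ?_ ?_
      · intro c hc
        set bb := B (M a) a with hbb
        have k12 : 2 * B (M a) (s a) = t * bb := by
          have h1 : B (M a) (s a) = t * bb - B (M (s a)) a := by
            conv_lhs => rw [alt_neg hA, hsadj, map_sub, map_smul, smul_eq_mul, hsMv, alt_neg hA a, alt_neg hA a]
            ring
          rw [hsym (s a) a] at h1
          linear_combination h1
        have k12' : B (M a) (s a) = -(t * bb) := by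
          linear_combination -k12 + B (M a) (s a) * three_eq_zero (F := F)
        have k22 : B (M (s a)) (s a) = bb := by rw [← hsMv, hs]
        have k21 : B (M (s a)) a = -(t * bb) := by rw [hsym, k12']
        have hd : (1 : F) - t ^ 2 ≠ 0 := sub_ne_zero.mpr (Ne.symm ht)
        simp only [Fin.sum_univ_four] at hc
        have c2 := hc 2
        have c3 := hc 3
        simp [hskew, hMMv, k12', k22, k21, ← hbb] at c2 c3
        have z0 : c 0 = 0 := by
          have : (1 - t ^ 2) * bb * c 0 = 0 := by linear_combination c2 + t * c3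
          exact (mul_eq_zero.mp this).resolve_left (mul_ne_zero hd ha)
        have z1 : c 1 = 0 := by
          rw [z0] at c3
          exact (mul_eq_zero.mp (show c 1 * bb = 0 by linear_combination c3)).resolve_right ha
        have c0 := hc 0
        have c1 := hc 1
        simp [hskew, z0, z1, k12', k22, k21, ← hbb] at c0 c1
        have z2 : c 2 = 0 := by
          have : (1 - t ^ 2) * bb * c 2 = 0 := by linear_combination (-1 : F) * c0 - t * c1
          exact (mul_eq_zero.mp this).resolve_left (mul_ne_zero hd ha)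
        have z3 : c 3 = 0 := by
          rw [z2] at c1
          exact (mul_eq_zero.mp (show c 3 * bb = 0 by linear_combination (-1 : F) * c1)).resolve_right ha
        funext i; fin_cases i <;> assumption
      · intro i
        rw [Submodule.mem_span_range_iff_exists_fun]
        fin_cases i
        · exact ⟨![0, 1, 0, -1], by simp [Fin.sum_univ_four, hxv, hsMv, hMMv]; abel⟩
        · exact ⟨![-1, t, 1, -t], by simp [Fin.sum_univ_four, hxv, hsMv, hMMv, hs2]; module⟩
        · exact ⟨![0, 0, 0, 1], by simp [Fin.sum_univ_four, hxv, hsMv, hMMv]⟩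
        · exact ⟨![0, 0, -1, t], by simp [Fin.sum_univ_four, hxv, hsMv, hMMv, hs2]; module⟩
  right
  have halt2 : ∀ v, B ((M * M) v) v = 0 := fun v => by
    have h1 := alt_neg hA (M (M v)) v
    rw [hskew v (M v), hskew (M v) v, neg_neg] at h1
    exact alt_zero hA v |> fun _ => (mul_eq_zero.mp (show (2 : F) * B ((M * M) v) v = 0 by
      simp only [Module.End.mul_apply]; linear_combination h1)).resolve_left neg_one_ne_zero'
  obtain ⟨a0, b0, h0⟩ : ∃ a0 b0, B ((M * M) a0) b0 ≠ 0 := by
    by_contra h
    push Not at h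
    exact hMM (LinearMap.ext fun v => hB.1 _ (h v))
  obtain ⟨a, -, b, -, hab, hrel⟩ := exists_pair hA hsadj hs2 hsc (hsM.mul_right hsM) (U := ⊤)
    (fun v _ => trivial) (fun v _ => halt2 v) (a0 := a0) (b0 := b0) trivial trivial h0
  -- normalise the leading coefficient
  obtain ⟨a, b, hab1, hrel⟩ : ∃ a b, B (M (M a)) b = 1 ∧ SRel t s a b := by
    set c := B ((M * M) a) b with hc
    by_cases ht : t ^ 2 = 1
    · exact ⟨c⁻¹ • a, b, by simp only [map_smul, LinearMap.smul_apply, smul_eq_mul]; exact inv_mul_cancel₀ hab,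
        fun _ => ⟨hsc ht _, hsc ht _⟩, fun h => absurd ht h⟩
    · obtain ⟨p, r, hpr⟩ : ∃ p r : F, p ^ 2 + t * p * r + r ^ 2 = c⁻¹ := by
        have hodd : Fintype.card F % 2 = 1 := by
          refine FiniteField.odd_card_of_char_ne_two ?_
          rw [ringChar.eq F 3]; norm_num
        obtain ⟨A, r, hAr⟩ := FiniteField.exists_root_sum_quadratic (f := X ^ 2 - C c⁻¹)
          (g := C (1 - t ^ 2) * X ^ 2) (by rw [degree_X_pow_sub_C (by norm_num)]; rfl)
          (by rw [degree_C_mul_X_pow 2 (sub_ne_zero.mpr (Ne.symm ht))]; rfl) hodd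
        simp only [eval_sub, eval_pow, eval_X, eval_C, eval_mul] at hAr
        exact ⟨A + t * r, r, by linear_combination hAr + (t * A * r + t ^ 2 * r ^ 2) * three_eq_zero (F := F)⟩
      obtain ⟨ha', hb'⟩ := hrel.2 ht
      refine ⟨p • a + r • b, s (p • a + r • b), ?_, fun h => absurd h ht, fun _ => ⟨rfl, by rw [hs2]; abel⟩⟩
      have z1 : B (M (M a)) a = 0 := halt2 a
      have z2 : B (M (M b)) b = 0 := halt2 b
      have z3 : B (M (M b)) a = -c := by
        have h1 := halt2 (a + b)
        simp only [Module.End.mul_apply, map_add, LinearMap.add_apply, z1, z2] at h1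
        rw [hc, Module.End.mul_apply]; linear_combination h1
      have z4 : B (M (M a)) b = c := by rw [hc, Module.End.mul_apply]
      simp only [map_add, map_smul, ha', hb', LinearMap.add_apply, LinearMap.smul_apply, smul_eq_mul, map_neg,
        z1, z2, z3, z4]
      linear_combination c * hpr + inv_mul_cancel₀ hab
  have hb1 : B (M (M b)) a = -1 := by
    have h1 := halt2 (a + b)
    simp only [Module.End.mul_apply, map_add, LinearMap.add_apply] at h1
    have z1 : B (M (M a)) a = 0 := halt2 a
    have z2 : B (M (M b)) b = 0 := halt2 b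
    linear_combination h1 - z1 - z2 - hab1
  have hz : ∀ v, B (M (M v)) v = 0 := halt2
  -- kill the first form
  obtain ⟨a, b, hab1, hb1, hrel, k11, k12, k22⟩ : ∃ a b, B (M (M a)) b = 1 ∧ B (M (M b)) a = -1 ∧ SRel t s a b ∧
      B (M a) a = 0 ∧ B (M a) b = 0 ∧ B (M b) b = 0 := by
    set k11 := B (M a) a with h11
    set k12 := B (M a) b with h12
    set k22 := B (M b) b with h22
    have h21 : B (M b) a = k12 := hsym b a
    refine ⟨a + M (k12 • a - k11 • b), b + M (k22 • a - k12 • b), ?_, ?_, ⟨fun ht => ⟨hsc ht _, hsc ht _⟩,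
      fun ht => ?_⟩, ?_, ?_, ?_⟩
    · simp [hskew, hM3v, hab1]
    · simp [hskew, hM3v, hb1]
    · obtain ⟨ha', hb'⟩ := hrel.2 ht
      have r22 : k22 = k11 := by rw [h22, ← ha', ← hsMv, hs]
      have r12 : k12 - t * k11 = -k12 := by
        have h1 : k12 = t * k11 - k12 := by
          calc k12 = B (M a) (s a) := by rw [h12, ← ha']
            _ = - B (s a) (M a) := alt_neg hA _ _
            _ = - B a (t • M a - s (M a)) := by rw [hsadj]
            _ = t * k11 - k12 := by
              rw [map_sub, map_smul, smul_eq_mul, hsMv, ha', alt_neg hA a (M a), alt_neg hA a (M b), h21]; ring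
        linear_combination h1
      have e1 : s (a + M (k12 • a - k11 • b)) = b + M (k22 • a - k12 • b) := by
        rw [map_add, ha', hsMv, map_sub, map_smul, map_smul, ha', hb', r22]
        congr 1
        rw [← sub_eq_zero, ← map_sub]
        convert map_zero M using 2
        match_scalars
        all_goals first | linear_combination r12 | linear_combination -r12 | ring
      exact ⟨e1, by rw [← e1, hs2]; abel⟩
    · simp [hskew, hM3v, hab1, hb1, hz, ← h11, ← h12, ← h22, h21]
      linear_combination k11 * three_eq_zero (F := F)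
    · simp [hskew, hM3v, hab1, hb1, hz, ← h11, ← h12, ← h22, h21]
      linear_combination k12 * three_eq_zero (F := F)
    · simp [hskew, hM3v, hab1, hb1, hz, ← h11, ← h12, ← h22, h21]
      linear_combination k22 * three_eq_zero (F := F)
  have k21 : B (M b) a = 0 := by rw [hsym, k12]
  -- kill the zeroth form
  set k0 := B a b with h0'
  have h0'' : B b a = -k0 := alt_neg hA b a
  obtain ⟨a, b, hab1, hb1, hrel, k11, k12, k21, k22, g0, g0'⟩ : ∃ a b, B (M (M a)) b = 1 ∧ B (M (M b)) a = -1 ∧
      SRel t s a b ∧ B (M a) a = 0 ∧ B (M a) b = 0 ∧ B (M b) a = 0 ∧ B (M b) b = 0 ∧ B a b = 0 ∧ B b a = 0 := by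
    refine ⟨a + k0 • M (M a), b + k0 • M (M b), ?_, ?_, ⟨fun ht => ⟨hsc ht _, hsc ht _⟩, fun ht => ?_⟩,
      ?_, ?_, ?_, ?_, ?_, ?_⟩
    · simp [hskew, hM3v, hab1]
    · simp [hskew, hM3v, hb1]
    · obtain ⟨ha', hb'⟩ := hrel.2 ht
      simp only [map_add, map_smul, hsMv, ha', hb', map_neg]
      constructor <;> first | trivial | module
    · simp [hskew, hM3v, k11]
    · simp [hskew, hM3v, k12]
    · simp [hskew, hM3v, k21]
    · simp [hskew, hM3v, k22]
    · simp [hskew, hM3v, hab1, ← h0']
      linear_combination k0 * three_eq_zero (F := F)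
    · simp [hskew, hM3v, hb1, h0'']
      linear_combination -k0 * three_eq_zero (F := F)
  refine ⟨s, M, a, b, by rw [← huM], hsM, hrel, hM3v a, hM3v b, fun i j => ?_⟩
  fin_cases i <;> fin_cases j <;>
    simp [anti, Fin.ext_iff, Fin.val_rev, hskew, hM3v, hab1, hb1, hz, k11, k12, k21, k22, g0, g0', alt_zero hA]

omit hdim in
theorem skew_pow {M : Module.End F V} (hskew : ∀ a b, B a (M b) = - B (M a) b) :
    ∀ (j : ℕ) (a b : V), B a ((M ^ j) b) = (-1) ^ j * B ((M ^ j) a) b := by
  intro j
  induction j with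
  | zero => intro a b; simp
  | succ j ih =>
    intro a b
    conv_lhs => rw [pow_succ', Module.End.mul_apply, hskew, ih]
    rw [pow_succ (M := Module.End F V), Module.End.mul_apply, pow_succ]
    ring

/-- One block of size six or an invariant plane. -/
theorem covered_or_NF5 {u ui : Module.End F V} {t : F} (huu : u * ui = 1) (hiu : ui * u = 1)
    (hu : ∀ a b, B (u a) (u b) = B a b) (ht : t ^ 2 = 1) (h6 : (u - 1) ^ 6 = 0) (h3 : (u - 1) ^ 3 ≠ 0) :
    (Covered B ((-t) • u) ∧ (u - 1) ^ 5 = 0) ∨ ∃ c ≠ 0, NF5 B t c ((-t) • u) := by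
  haveI : Nontrivial V := Module.nontrivial_of_finrank_pos (R := F) (by omega)
  haveI : CharP (Module.End F V) 3 := charP_of_injective_algebraMap (algebraMap F (Module.End F V)).injective 3
  have h3e : (3 : Module.End F V) = 0 := by exact_mod_cast CharP.cast_eq_zero (Module.End F V) 3
  set M := u - ui with hMdef
  have huadj : ∀ a b, B (u a) b = B a (ui b) := fun a b => by
    conv_rhs => rw [← hu]
    rw [← Module.End.mul_apply u ui, huu, Module.End.one_apply]
  have hskew : ∀ a b, B a (M b) = - B (M a) b := fun a b => by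
    have h1 : B (ui a) b = B a (u b) := by
      rw [alt_neg hA, ← huadj, alt_neg hA (u b), neg_neg]
    simp only [hMdef, LinearMap.sub_apply, map_sub, huadj, h1]
    ring
  have hcu : Commute u ui := by show u * ui = ui * u; rw [huu, hiu]
  have huM : Commute u M := (Commute.refl u).sub_right hcu
  have hMfac : M = (u - 1) * ((u + 1) * ui) := by
    rw [← mul_assoc, show (u - 1) * (u + 1) = u * u - 1 by noncomm_ring, sub_mul, mul_assoc, huu, mul_one, one_mul]
  have hcomm : Commute (u - 1) ((u + 1) * ui) := by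
    have c1 : Commute (u - 1) (u + 1) := ((Commute.refl u).sub_left (Commute.one_left u)).add_right
      (Commute.one_right _)
    exact c1.mul_right (hcu.sub_left (Commute.one_left ui))
  have hnil : IsNilpotent (u - 1) := ⟨6, h6⟩
  have h21 : (2 : Module.End F V) = -1 := by
    rw [eq_neg_iff_add_eq_zero, show (2 : Module.End F V) + 1 = 3 by norm_num]; exact h3e
  have hu1 : IsUnit (u + 1) := by
    have e : u + 1 = -(1 - (u - 1)) := by
      rw [← sub_eq_zero, ← h3e]; noncomm_ring; simp
    rw [e]; exact hnil.isUnit_one_sub.neg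
  have hWu : IsUnit ((u + 1) * ui) := hu1.mul (IsUnit.of_mul_eq_one _ hiu)
  have hpow : ∀ k, M ^ k = 0 ↔ (u - 1) ^ k = 0 := fun k => by
    rw [hMfac, hcomm.mul_pow]
    exact (hWu.pow k).mul_left_eq_zero
  have hM6 : M ^ 6 = 0 := (hpow 6).mpr h6
  have hM3 : M ^ 3 ≠ 0 := fun e => h3 ((hpow 3).mp e)
  -- `u` is a polynomial in `M`
  have huE : u = 1 - M - M * M + M * M * M * M := by
    obtain ⟨p, hp⟩ : ∃ p : F[X], p = 1 - X - X * X + X * X * X * X := ⟨_, rfl⟩
    have hE : aeval M p = 1 - M - M * M + M * M * M * M := by simp [hp]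
    rw [← hE]
    have hid : p * (p - X) = 1 + X ^ 6 * (X ^ 2 - 2) + C 3 * (-X + X ^ 3 + X ^ 4 - X ^ 5) := by
      simp only [hp, map_ofNat]; ring
    have hEM : aeval M p * (aeval M p - M) = 1 := by
      have h1 := congrArg (aeval M) hid
      rw [three_eq_zero, map_zero, zero_mul, add_zero, map_mul, map_sub, aeval_X, map_add, map_mul, map_pow,
        aeval_X, hM6, zero_mul, add_zero, map_one] at h1
      exact h1
    have hcE : Commute u (aeval M p) := Algebra.commute_of_mem_adjoin_singleton_of_commute
      (aeval_mem_adjoin_singleton F M) huM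
    have hcE' : Commute (aeval M p) M := by
      have := ((Commute.all p X).map (aeval M))
      rwa [aeval_X] at this
    have hz : (u - aeval M p) * (u + aeval M p - M) = 0 := by
      have e1 : u * u - u * M = 1 := by rw [hMdef, mul_sub, huu]; abel
      calc (u - aeval M p) * (u + aeval M p - M)
          = (u * u - u * M) + (u * aeval M p - aeval M p * u) - aeval M p * (aeval M p - M) := by noncomm_ring
        _ = 0 := by rw [e1, hcE.eq, hEM]; abel
    have hun : IsUnit (u + aeval M p - M) := by
      have hnM : IsNilpotent M := ⟨6, hM6⟩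
      have hz2 : IsNilpotent ((u - 1) + aeval M (p - 1 - X)) := by
        refine Commute.isNilpotent_add ?_ hnil ?_
        · exact (Algebra.commute_of_mem_adjoin_singleton_of_commute (aeval_mem_adjoin_singleton F M) huM).sub_left
            (Commute.one_left _)
        · rw [show p - 1 - X = X * (-2 - X + X * X * X) by simp only [hp]; ring, map_mul, aeval_X]
          refine Commute.isNilpotent_mul_right ?_ hnM
          have := ((Commute.all X (-2 - X + X * X * X : F[X])).map (aeval M))
          rwa [aeval_X] at this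
      have e : u + aeval M p - M = -(1 - ((u - 1) + aeval M (p - 1 - X))) := by
        rw [map_sub, map_sub, map_one, aeval_X]
        rw [← sub_eq_zero, ← h3e]; noncomm_ring; simp
      rw [e]; exact hz2.isUnit_one_sub.neg
    exact sub_eq_zero.mp ((hun.mul_left_eq_zero).mp hz)
  have hsk := skew_pow hA hB hskew
  have heven : ∀ j, Even j → ∀ v, B ((M ^ j) v) v = 0 := fun j hj v => by
    have h1 := hsk j v v
    rw [hj.neg_one_pow, one_mul, alt_neg hA v] at h1
    exact (mul_eq_zero.mp (show (2 : F) * B ((M ^ j) v) v = 0 by linear_combination -h1)).resolve_left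
      neg_one_ne_zero'
  have hodd : ∀ j, Odd j → M ^ j ≠ 0 → ∃ w, B ((M ^ j) w) w ≠ 0 := fun j hj hne => by
    by_contra h
    push Not at h
    refine hne (LinearMap.ext fun v => hB.1 _ fun z => ?_)
    have hsy : B ((M ^ j) z) v = B ((M ^ j) v) z := by
      rw [alt_neg hA ((M ^ j) z), hsk, hj.neg_one_pow]; ring
    have h1 := h (v + z)
    simp only [map_add, LinearMap.add_apply, h v, h z, hsy] at h1
    exact (mul_eq_zero.mp (show (2 : F) * B ((M ^ j) v) z = 0 by linear_combination h1)).resolve_left
      neg_one_ne_zero'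
  by_cases h5 : M ^ 5 = 0
  · left
    refine ⟨?_, (hpow 5).mp h5⟩
    have h4 : M ^ 4 = 0 := by
      by_contra h4
      obtain ⟨w, w', hww⟩ : ∃ w w', B ((M ^ 4) w) w' ≠ 0 := by
        by_contra h
        push Not at h
        exact h4 (LinearMap.ext fun v => hB.1 _ (h v))
      have hw'w : B ((M ^ 4) w') w ≠ 0 := by
        intro e
        rw [alt_neg hA, hsk, (show Even 4 by decide).neg_one_pow, one_mul, neg_eq_zero] at e
        exact hww e
      have htop : ∀ a b : F, a • (M ^ 4) w + b • (M ^ 4) w' = 0 → a = 0 ∧ b = 0 := by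
        intro a b hab
        have k1 := congrArg (fun z => B z w') hab
        have k2 := congrArg (fun z => B z w) hab
        simp only [map_add, map_smul, LinearMap.add_apply, LinearMap.smul_apply, map_zero, LinearMap.zero_apply,
          heven 4 (by decide), smul_eq_mul, mul_zero, add_zero, zero_add, mul_eq_zero] at k1 k2
        exact ⟨k1.resolve_right hww, k2.resolve_right hw'w⟩
      let f : Fin 4 ⊕ Fin 4 → V := Sum.elim (fun i => (M ^ (i : ℕ)) w) (fun i => (M ^ (i : ℕ)) w')
      have hli : LinearIndependent F f := by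
        rw [Fintype.linearIndependent_iff]
        intro g hg
        simp only [Fintype.sum_sum_type, Fin.sum_univ_four, f, Sum.elim_inl, Sum.elim_inr] at hg
        have push : ∀ k, (M ^ k) ((g (.inl 0)) • (M ^ 0) w + (g (.inl 1)) • (M ^ 1) w + (g (.inl 2)) • (M ^ 2) w +
            (g (.inl 3)) • (M ^ 3) w + ((g (.inr 0)) • (M ^ 0) w' + (g (.inr 1)) • (M ^ 1) w' +
            (g (.inr 2)) • (M ^ 2) w' + (g (.inr 3)) • (M ^ 3) w')) = 0 := fun k => by
          rw [show ((g (.inl 0)) • (M ^ 0) w + (g (.inl 1)) • (M ^ 1) w + (g (.inl 2)) • (M ^ 2) w +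
            (g (.inl 3)) • (M ^ 3) w + ((g (.inr 0)) • (M ^ 0) w' + (g (.inr 1)) • (M ^ 1) w' +
            (g (.inr 2)) • (M ^ 2) w' + (g (.inr 3)) • (M ^ 3) w')) = 0 from hg, map_zero]
        have p4 := push 4
        simp only [map_add, map_smul, ← Module.End.mul_apply, ← pow_add, h5, hM6,
          pow_eq_zero_of_le (show 5 ≤ 4 + 3 by norm_num) h5, LinearMap.zero_apply, smul_zero, add_zero] at p4
        obtain ⟨a0, b0⟩ := htop _ _ p4
        have p3 := push 3
        simp only [map_add, map_smul, ← Module.End.mul_apply, ← pow_add, h5, hM6, a0, b0,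
          LinearMap.zero_apply, smul_zero, zero_smul, add_zero, zero_add] at p3
        obtain ⟨a1, b1⟩ := htop _ _ p3
        have p2 := push 2
        simp only [map_add, map_smul, ← Module.End.mul_apply, ← pow_add, h5, a0, b0, a1, b1,
          LinearMap.zero_apply, smul_zero, zero_smul, add_zero, zero_add] at p2
        obtain ⟨a2, b2⟩ := htop _ _ p2
        have p1 := push 1
        simp only [map_add, map_smul, ← Module.End.mul_apply, ← pow_add, a0, b0, a1, b1, a2, b2,
          zero_smul, add_zero, zero_add] at p1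
        obtain ⟨a3, b3⟩ := htop _ _ p1
        rintro (i | i) <;> fin_cases i <;> assumption
      have := hli.fintype_card_le_finrank
      rw [hdim, Fintype.card_sum, Fintype.card_fin] at this
      omega
    obtain ⟨w, hw⟩ := hodd 3 (by decide) hM3
    have h4v : ∀ v, M (M (M (M v))) = 0 := fun v => by
      have h1 := congrArg (fun T : Module.End F V => T v) h4
      simpa [pow_succ] using h1
    have h2v : ∀ v, B (M (M v)) v = 0 := fun v => by
      have := heven 2 (by decide) v
      simpa [pow_succ] using this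
    have hw' : B (M (M (M w))) w ≠ 0 := by simpa [pow_succ] using hw
    refine covered_of_four hA hB hdim (fun p r => by
      simp only [LinearMap.smul_apply, map_smul, hu, smul_eq_mul]
      linear_combination (B p r) * ht) ![w, M w, M (M w), M (M (M w))] ?_ ?_
    · intro c hc
      simp only [Fin.sum_univ_four] at hc
      have c3 := hc 3
      simp [hskew, h4v] at c3
      have z0 : c 0 = 0 := c3.resolve_right hw'
      have c2 := hc 2
      simp [hskew, h4v, z0] at c2
      have z1 : c 1 = 0 := c2.resolve_right hw'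
      have c1 := hc 1
      simp [hskew, h4v, z0, z1] at c1
      have z2 : c 2 = 0 := c1.resolve_right hw'
      have c0 := hc 0
      simp [hskew, h4v, z0, z1, z2] at c0
      have z3 : c 3 = 0 := c0.resolve_right hw'
      funext i; fin_cases i <;> assumption
    · intro i
      rw [Submodule.mem_span_range_iff_exists_fun, huE]
      fin_cases i
      · exact ⟨![-t, t, t, 0], by simp [Fin.sum_univ_four, h4v]; module⟩
      · exact ⟨![0, -t, t, t], by simp [Fin.sum_univ_four, h4v]; module⟩
      · exact ⟨![0, 0, -t, t], by simp [Fin.sum_univ_four, h4v]; module⟩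
      · exact ⟨![0, 0, 0, -t], by simp [Fin.sum_univ_four, h4v]⟩
  right
  obtain ⟨w, hw⟩ := hodd 5 (by decide) h5
  set e5 := B ((M ^ 5) w) w with he5
  set e3 := B ((M ^ 3) w) w with he3
  set e1 := B ((M ^ 1) w) w with he1
  set w' := w + (e3 / e5) • (M ^ 2) w + (e1 / e5) • (M ^ 4) w with hw'
  have hbig : ∀ n, 6 ≤ n → M ^ n = 0 := fun n hn => pow_eq_zero_of_le hn hM6
  have hexp : ∀ k, B ((M ^ k) w') w' = B ((M ^ k) w) w + 2 * (e3 / e5) * B ((M ^ (k + 2)) w) w +
      ((e3 / e5) ^ 2 + 2 * (e1 / e5)) * B ((M ^ (k + 4)) w) w +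
      2 * (e3 / e5) * (e1 / e5) * B ((M ^ (k + 6)) w) w + (e1 / e5) ^ 2 * B ((M ^ (k + 8)) w) w := fun k => by
    simp only [hw', map_add, map_smul, LinearMap.add_apply, LinearMap.smul_apply, smul_eq_mul, hsk,
      ← Module.End.mul_apply, ← pow_add]
    ring_nf
  refine ⟨e5, hw, M, w', by rw [← huE], hM6, fun i j => ?_⟩
  rw [hsk, ← Module.End.mul_apply, ← pow_add, add_comm]
  have hk : ∀ k, B ((M ^ k) w') w' = if k = 5 then e5 else 0 := by
    intro k
    rcases Nat.even_or_odd k with hev | hod
    · rw [if_neg (by rintro rfl; exact absurd hev (by decide))]; exact heven k hev w'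
    rcases lt_or_ge k 6 with hlt | hge
    swap
    · rw [hbig k hge, if_neg (by omega)]; simp
    obtain rfl | rfl | rfl : k = 1 ∨ k = 3 ∨ k = 5 := by obtain ⟨m, hm⟩ := hod; omega
    · rw [hexp, if_neg (by norm_num), hbig (1 + 6) le_add_self, hbig (1 + 8) (by norm_num)]
      simp only [LinearMap.zero_apply, map_zero, mul_zero, add_zero, Nat.reduceAdd, ← he1, ← he3, ← he5]
      field_simp
      linear_combination (e1 * e5 + e3 ^ 2) * three_eq_zero (F := F)
    · rw [hexp, if_neg (by norm_num), hbig (3 + 4) (by norm_num), hbig (3 + 6) (by norm_num),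
        hbig (3 + 8) (by norm_num)]
      simp only [LinearMap.zero_apply, map_zero, mul_zero, add_zero, Nat.reduceAdd, ← he3, ← he5]
      field_simp
      linear_combination e3 * three_eq_zero (F := F)
    · rw [hexp, if_pos rfl, hbig (5 + 2) (by norm_num), hbig (5 + 4) (by norm_num), hbig (5 + 6) (by norm_num),
        hbig (5 + 8) (by norm_num)]
      simp [he5]
  rw [hk]
  simp only [anti]
  by_cases hij : j = i.rev
  · rw [if_pos hij, hij, Fin.val_rev, if_pos (by omega)]
    fin_cases i <;> norm_num
  · rw [if_neg hij, if_neg fun e => hij (Fin.ext (by rw [Fin.val_rev]; omega)), mul_zero]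

end Cfsg.Agent.H55.Cover.SpSix
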