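import Cfsg.Agent.H55.Cover.Linear
import Cfsg.Agent.Unitary.TIFrames
import Cfsg.Agent.Unitary.Center

/-!
Transitivity of `SU` on anisotropic points and totally isotropic frames up to scalars.
-/

set_option autoImplicit false
set_option linter.style.haveILetI false
set_option linter.unusedSectionVars false

namespace Cfsg.Agent.H55.Cover.UBasic

open Cfsg Cfsg.Agent.Unitary
open scoped Matrix

variable {F : Type*} [Field F] [Fintype F] {n q : ℕ}

local notation "h" => hermForm n F q

/-- Elements of `SU` as matrices. -/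
def suMat (n : ℕ) (F : Type*) [Field F] (q : ℕ) : SU n F q →* Matrix (Fin n) (Fin n) F :=
  (slMat n).comp (SU n F q).subtype

theorem suMat_preserves (x : SU n F q) : Preserves q (suMat n F q x) := x.2

theorem suMat_apply_ap (x : SU n F q) (v : Fin n → F) : suMat n F q x *ᵥ v = ap x v := rfl

theorem suMat_inv_mulVec (x : SU n F q) {v w : Fin n → F} (e : suMat n F q x *ᵥ v = w) :
    suMat n F q x⁻¹ *ᵥ w = v := by
  rw [← e, Matrix.mulVec_mulVec, ← map_mul, inv_mul_cancel, map_one, Matrix.one_mulVec]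

theorem center_smul (hF : Fintype.card F = q ^ 2) (hn : 2 ≤ n) {z : SU n F q}
    (hz : z ∈ Subgroup.center (SU n F q)) : ∃ c : F, ∀ v, suMat n F q z *ᵥ v = c • v :=
  eq_smul_of_mem_center hF hn hz

/-- The determinant of an isometry scaling the members of a basis. -/
theorem det_scale {ι : Type*} [Fintype ι] [DecidableEq ι] {a : ι → Fin n → F} (ha : LinearIndependent F a)
    (has : ⊤ ≤ Submodule.span F (Set.range a)) {D : Matrix (Fin n) (Fin n) F} {c : ι → F}
    (hD : ∀ i, D *ᵥ a i = c i • a i) : D.det = ∏ i, c i := by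
  let B := Module.Basis.mk ha has
  have e : LinearMap.toMatrix B B (Matrix.toLin' D) = Matrix.diagonal c := by
    ext i j
    rw [LinearMap.toMatrix_apply, Module.Basis.mk_apply, Matrix.toLin'_apply, hD,
      ← Module.Basis.mk_apply ha has j, map_smul, Module.Basis.repr_self, Finsupp.smul_apply,
      Finsupp.single_apply, Matrix.diagonal_apply]
    rcases eq_or_ne i j with rfl | hij
    · simp
    · simp [hij, Ne.symm hij]
  rw [← LinearMap.det_toLin', ← LinearMap.det_toMatrix B, e, Matrix.det_diagonal]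

theorem det_gmat_norm (hF : Fintype.card F = q ^ 2) (g : GU n F q) :
    (gmat g).det * (gmat g).det ^ q = 1 := Preserves.det_norm hF g.2

/-- An element of `SU` from one of `GU` with a compensating scaling. -/
theorem exists_su_of_scale (hF : Fintype.card F = q ^ 2) {ι : Type*} [Fintype ι] [DecidableEq ι]
    {a : ι → Fin n → F} (ha : LinearIndependent F a) (has : ⊤ ≤ Submodule.span F (Set.range a))
    (g : GU n F q) (c : ι → F)
    (hgram : ∀ i j, h (c i • a i) (c j • a j) = h (a i) (a j)) (hdet : (gmat g).det * ∏ i, c i = 1) :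
    ∃ x : SU n F q, ∀ i, suMat n F q x *ᵥ a i = c i • (gmat g *ᵥ a i) := by
  obtain ⟨D, hD⟩ := exists_isometry_of_gram hF ha has hgram
  have hd : (gmat D).det = ∏ i, c i := det_scale ha has hD
  have hP : Preserves q (gmat g * gmat D) := fun u v => by
    rw [← Matrix.mulVec_mulVec, ← Matrix.mulVec_mulVec]
    exact (g.2 _ _).trans (D.2 u v)
  refine ⟨toSU hP (by rw [Matrix.det_mul, hd, hdet]), fun i => ?_⟩
  show (gmat g * gmat D) *ᵥ a i = _
  rw [← Matrix.mulVec_mulVec]
  show gmat g *ᵥ (((D : GL (Fin n) F) : Matrix (Fin n) (Fin n) F) *ᵥ a i) = _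
  rw [hD, Matrix.mulVec_smul]

/-- `SU` is transitive on vectors of norm one. -/
theorem exists_map_norm_one (hF : Fintype.card F = q ^ 2) (hn : 2 ≤ n) {v w : Fin n → F}
    (hv : h v v = 1) (hw : h w w = 1) : ∃ x : SU n F q, suMat n F q x *ᵥ v = w := by
  classical
  have hon : ∀ u : Fin n → F, h u u = 1 → ON q (fun _ : Unit => u) := fun u hu i j => by
    rw [if_pos (Subsingleton.elim i j)]; exact hu
  obtain ⟨g, hg⟩ := exists_GU_map_ON hF (hon v hv) (hon w hw)
  obtain ⟨e, he, hes⟩ := (hon v hv).exists_extend hF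
  have has : ⊤ ≤ Submodule.span F (Set.range (Sum.elim (fun _ : Unit => v) e)) := by
    rw [Set.Sum.elim_range, Submodule.span_union, hes, ((hon v hv).isCompl hF).sup_eq_top]
  let i0 : Fin (n - Fintype.card Unit) := ⟨0, by rw [Fintype.card_unit]; omega⟩
  let μ := ((gmat g).det)⁻¹
  have hμ : μ * μ ^ q = 1 := by
    rw [inv_pow, ← mul_inv, det_gmat_norm hF g, inv_one]
  let c : Unit ⊕ Fin (n - Fintype.card Unit) → F := Function.update 1 (Sum.inr i0) μ
  have hc : ∏ i, c i = μ := by
    rw [Finset.prod_update_of_mem (Finset.mem_univ _)]; simp only [Pi.one_apply, Finset.prod_const_one, mul_one]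
  have hdet0 : (gmat g).det ≠ 0 := left_ne_zero_of_mul_eq_one (det_gmat_norm hF g)
  obtain ⟨x, hx⟩ := exists_su_of_scale hF he.linearIndependent has g c (fun i j => by
    rw [herm_smul_left, herm_smul_right, he]
    rcases eq_or_ne i j with rfl | hij
    · rw [if_pos rfl, mul_one]
      rcases eq_or_ne i (Sum.inr i0) with rfl | hi
      · simp only [c, Function.update_self]; exact hμ
      · simp only [c, Function.update_of_ne hi, Pi.one_apply, one_pow, mul_one]
    · rw [if_neg hij, mul_zero, mul_zero]) (by rw [hc, mul_inv_cancel₀ hdet0])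
  refine ⟨x, ?_⟩
  have := hx (Sum.inl ())
  simp only [Sum.elim_inl, c, Function.update_of_ne (show (Sum.inl () : Unit ⊕ Fin (n - Fintype.card Unit)) ≠
    Sum.inr i0 from Sum.inl_ne_inr), Pi.one_apply, one_smul] at this
  rw [this]
  exact hg ()

/-- A vector of non-zero norm has a multiple of norm one. -/
theorem exists_smul_norm_one (hF : Fintype.card F = q ^ 2) {v : Fin n → F} (hv : h v v ≠ 0) :
    ∃ l : F, l ≠ 0 ∧ h (l • v) (l • v) = 1 := by
  obtain ⟨l, hl⟩ := exists_norm_eq hF (a := (h v v)⁻¹) (by rw [inv_pow, herm_self_fixed hF])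
  refine ⟨l, fun e => inv_ne_zero hv (by rw [← hl, e, zero_mul]), ?_⟩
  rw [herm_self_smul, hl, inv_mul_cancel₀ hv]

/-- `SU` is transitive on totally isotropic frames up to a scalar on the first vector. -/
theorem exists_map_frame (hF : Fintype.card F = q ^ 2) {k : ℕ} (hk : 0 < k) (f f' : TIFrame n F q k) :
    ∃ x : SU n F q, ∀ i, ∃ c : F, suMat n F q x *ᵥ f.1 i = c • f'.1 i := by
  classical
  obtain ⟨g, hg⟩ := exists_GU_map_TIFrame hF f f'
  obtain ⟨b⟩ := exists_hypBasis hF f
  have hd := det_gmat_norm hF g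
  have hd0 : (gmat g).det ≠ 0 := left_ne_zero_of_mul_eq_one hd
  have hq := two_le_q hF
  have hker : (Units.mk0 _ hd0) ∈ (powMonoidHom (q + 1) : Fˣ →* Fˣ).ker := by
    rw [MonoidHom.mem_ker, powMonoidHom_apply]
    exact Units.ext (by rw [Units.val_pow_eq_pow_val, Units.val_mk0, pow_succ', hd, Units.val_one])
  rw [← range_pow_sub_eq_ker hF] at hker
  obtain ⟨u, hu⟩ := hker
  let a : F := (u : F)
  have ha0 : a ≠ 0 := u.ne_zero
  let j0 : Fin k := ⟨0, hk⟩
  let c : (Fin k ⊕ Fin k) ⊕ Fin (n - 2 * k) → F :=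
    Sum.elim (Sum.elim (Function.update 1 j0 a) (Function.update 1 j0 (a ^ q)⁻¹)) 1
  have hprod : (gmat g).det * ∏ i, c i = 1 := by
    rw [Fintype.prod_sum_type, Fintype.prod_sum_type]
    simp only [c, Sum.elim_inl, Sum.elim_inr, Finset.prod_update_of_mem (Finset.mem_univ j0)]
    simp only [Pi.one_apply, Finset.prod_const_one, mul_one]
    have hu' : a ^ (q - 1) = (gmat g).det := by
      have := congrArg Units.val hu
      rwa [powMonoidHom_apply, Units.val_pow_eq_pow_val, Units.val_mk0] at this
    rw [← hu', ← mul_assoc, ← pow_succ, show q - 1 + 1 = q by omega, mul_inv_cancel₀ (pow_ne_zero _ ha0)]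
  have hfv : ∀ i j, h (f.1 i) (b.v j) = if j = i then 1 else 0 := by
    intro i j
    rw [← herm_swap hF, b.vf]
    split_ifs <;> simp [q_ne_zero hF]
  obtain ⟨x, hx⟩ := exists_su_of_scale hF b.indep b.spans g c (by
    intro i j
    rw [herm_smul_left, herm_smul_right]
    rcases i with (i | i) | i <;> rcases j with (j | j) | j <;>
      simp only [Sum.elim_inl, Sum.elim_inr, f.2.2, b.vf, b.vv, b.ef, b.ev, hfv, b.ee _ _,
        (herm_eq_zero_symm hF).1 (b.ef _ _), (herm_eq_zero_symm hF).1 (b.ev _ _), mul_zero, mul_ite, mul_one, c,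
        Pi.one_apply, one_mul, one_pow]
    · rcases eq_or_ne j i with rfl | hij
      · rw [if_pos rfl, if_pos rfl]
        rcases eq_or_ne j j0 with rfl | hj
        · rw [Function.update_self, Function.update_self, inv_pow, pow_q_q hF]
          exact mul_inv_cancel₀ ha0
        · simp [hj]
      · rw [if_neg hij, if_neg hij]
    · rcases eq_or_ne i j with rfl | hij
      · rw [if_pos rfl, if_pos rfl]
        rcases eq_or_ne i j0 with rfl | hj
        · rw [Function.update_self, Function.update_self]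
          exact inv_mul_cancel₀ (pow_ne_zero _ ha0)
        · simp [hj]
      · rw [if_neg hij, if_neg hij]) hprod
  refine ⟨x, fun i => ⟨c (Sum.inl (Sum.inl i)), ?_⟩⟩
  have := hx (Sum.inl (Sum.inl i))
  simp only [Sum.elim_inl] at this
  rw [this]
  congr 1
  exact hg i

end Cfsg.Agent.H55.Cover.UBasic
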