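import Cfsg.Agent.H54.UnitarySemisimple
import Cfsg.Agent.Unitary.TIFrames

/-!
Irreducible factors of characteristic polynomials of unitary matrices and their kernels.
-/

set_option autoImplicit false
set_option linter.style.haveILetI false
set_option linter.unusedSectionVars false

namespace Cfsg.Agent.H55.Cover.UPoly

open Cfsg Cfsg.Agent.Unitary Polynomial
open Cfsg.Agent.H54.USS (dual)
open scoped Matrix

variable {F : Type*} [Field F] [Fintype F] {n q : ℕ} {M : Matrix (Fin n) (Fin n) F}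

local notation "h" => hermForm n F q

theorem coeff_zero_ne {g : F[X]} (hi : Irreducible g) (hd : 2 ≤ g.natDegree) : g.coeff 0 ≠ 0 := by
  intro e
  have := degree_eq_one_of_irreducible_of_root hi (x := 0) (by rw [IsRoot.def, ← coeff_zero_eq_eval_zero, e])
  have := natDegree_eq_of_degree_eq_some (n := 1) this
  omega

theorem eval₂_inv_of_reverse {R L : Type*} [CommRing R] [Field L] (i : R →+* L) {x : L} (hx : x ≠ 0)
    {f : R[X]} (he : eval₂ i x f.reverse = 0) : eval₂ i x⁻¹ f = 0 := by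
  letI : Invertible x⁻¹ := invertibleOfNonzero (inv_ne_zero hx)
  refine (eval₂_reverse_eq_zero_iff i x⁻¹ f).mp ?_
  rwa [invOf_eq_inv, inv_inv]

theorem aeval_toLin' {K : Type*} [Field K] (A : Matrix (Fin n) (Fin n) K) (P : K[X]) :
    aeval (Matrix.toLin' A) P = Matrix.toLin' (aeval A P) :=
  aeval_algHom_apply (Matrix.toLinAlgEquiv' : Matrix (Fin n) (Fin n) K ≃ₐ[K] _).toAlgHom A P

/-- A self-dual irreducible polynomial has odd degree. -/
theorem odd_of_dual_eq (hF : Fintype.card F = q ^ 2) {g : F[X]} (hi : Irreducible g)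
    (hg : dual hF g = g) : Odd g.natDegree := by
  by_cases hd : g.natDegree = 1
  · rw [hd]; exact odd_one
  have hpos := hi.natDegree_pos
  have h0 := coeff_zero_ne hi (by omega)
  obtain ⟨p, e, hp, -, hchar, rfl⟩ := exists_char_pow hF
  haveI : Fact p.Prime := ⟨hp⟩
  set q := p ^ e with hq
  haveI : Fact (Irreducible g) := ⟨hi⟩
  let L := AdjoinRoot g
  haveI : Module.Finite F L := (AdjoinRoot.powerBasis hi.ne_zero).finite
  haveI : Finite L := Module.finite_of_finite F
  haveI : CharP L p := charP_of_injective_algebraMap (algebraMap F L).injective p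
  let α : L := AdjoinRoot.root g
  have hgα : aeval α g = 0 := by rw [AdjoinRoot.aeval_eq, AdjoinRoot.mk_self]
  have hα0 : α ≠ 0 := by
    intro e0
    rw [e0, ← coeff_zero_eq_aeval_zero'] at hgα
    exact h0 (by simpa using hgα)
  let gb := g.map (frob hF).toRingHom
  have h1 : aeval α (dual hF g) = 0 := by rw [hg, hgα]
  rw [dual, map_mul, aeval_C, mul_eq_zero] at h1
  have h2 : aeval α gb.reverse = 0 := h1.resolve_left (by
    rw [map_eq_zero]; exact inv_ne_zero (pow_ne_zero _ h0))
  rw [aeval_def] at h2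
  replace h2 := eval₂_inv_of_reverse _ hα0 h2
  have hβ : aeval (α⁻¹ ^ q) g = 0 := by
    have h3 := congrArg (iterateFrobenius L p e) h2
    rw [map_zero, hom_eval₂, iterateFrobenius_def, ← hq, eval₂_map] at h3
    rw [aeval_def, show algebraMap F L =
      ((iterateFrobenius L p e).comp (algebraMap F L)).comp (frob hF).toRingHom from RingHom.ext fun a => ?_]
    · exact h3
    show algebraMap F L a = (algebraMap F L (a ^ q)) ^ q
    rw [← map_pow, pow_q_q hF]
  obtain ⟨σ, hσ⟩ : ∃ σ : L →ₐ[F] L, σ α = α⁻¹ ^ q :=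
    ⟨AdjoinRoot.liftAlgHom g (Algebra.ofId F L) _ hβ, AdjoinRoot.liftAlgHom_root ..⟩
  obtain ⟨σ', hσ'⟩ := (Algebra.IsAlgebraic.algEquivEquivAlgHom F L).surjective σ
  obtain ⟨j, hj⟩ := (FiniteField.bijective_frobeniusAlgEquivOfAlgebraic_pow F L).surjective σ'
  have hjσ : σ α = α ^ (q ^ 2) ^ (j : ℕ) := by
    rw [← hσ', ← hj]
    show (FiniteField.frobeniusAlgEquivOfAlgebraic F L ^ (j : ℕ)) α = _
    rw [AlgEquiv.coe_pow, FiniteField.coe_frobeniusAlgEquivOfAlgebraic, pow_iterate, hF]
  have heq : α ^ ((q ^ 2) ^ (j : ℕ) + q) = 1 := by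
    rw [pow_add, ← hjσ, hσ, inv_pow, inv_mul_cancel₀ (pow_ne_zero _ hα0)]
  have hq2 := two_le_q hF
  have hodd : ∃ i : ℕ, α ^ ((q ^ 2) ^ i * 1) = α ∧ Odd i := by
    rcases Nat.eq_zero_or_pos (j : ℕ) with h00 | h00
    · refine ⟨1, ?_, odd_one⟩
      rw [h00, pow_zero] at heq
      have e2 : (q ^ 2) ^ 1 * 1 = (1 + q) * (q - 1) + 1 := by
        obtain ⟨k, hk⟩ : ∃ k, q = k + 1 := ⟨q - 1, by omega⟩
        rw [hk, Nat.add_sub_cancel]; ring
      rw [e2, pow_succ, pow_mul, heq, one_pow, one_mul]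
    · obtain ⟨i, hi'⟩ : ∃ i, (j : ℕ) = i + 1 := ⟨_, (Nat.succ_pred_eq_of_pos h00).symm⟩
      refine ⟨2 * i + 1, ?_, ⟨i, rfl⟩⟩
      have e1 : α ^ (q ^ (2 * i + 1) + 1) = 1 := by
        apply (iterateFrobenius L p e).injective
        rw [map_one, iterateFrobenius_def, ← hq, ← pow_mul, ← heq, hi']
        congr 1
        ring
      obtain ⟨a, ha⟩ : ∃ a, q ^ (2 * i + 1) = a + 1 :=
        ⟨_, (Nat.succ_pred_eq_of_pos (pow_pos (by omega) _)).symm⟩
      have e2 : (q ^ 2) ^ (2 * i + 1) * 1 = (q ^ (2 * i + 1) + 1) * a + 1 := by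
        rw [mul_one, ← pow_mul, mul_comm 2, pow_mul, ha]; ring
      rw [e2, pow_succ, pow_mul, e1, one_pow, one_mul]
  obtain ⟨i, hi1, hiodd⟩ := hodd
  have hdvd : g ∣ X ^ (Nat.card F) ^ i - X := by
    rw [← AdjoinRoot.mk_eq_zero, map_sub, map_pow, AdjoinRoot.mk_X, Nat.card_eq_fintype_card, hF, sub_eq_zero]
    rwa [mul_one] at hi1
  exact Odd.of_dvd_nat hiodd (hi.natDegree_dvd_of_dvd_X_pow_card_pow_sub_X hdvd)

theorem dual_natDegree (hF : Fintype.card F = q ^ 2) {g : F[X]} (h0 : g.coeff 0 ≠ 0) :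
    (dual hF g).natDegree = g.natDegree := by
  rw [dual, natDegree_C_mul (inv_ne_zero (pow_ne_zero _ h0)), reverse_natDegree,
    natTrailingDegree_eq_zero.mpr (Or.inr (by
      rw [coeff_map]; exact fun e => h0 ((frob hF).toRingHom.injective (e.trans (map_zero _).symm)))),
    natDegree_map, Nat.sub_zero]

theorem preserves_pow (hM : Preserves q M) : ∀ (k : ℕ) (u v : Fin n → F),
    h ((M ^ k) *ᵥ u) ((M ^ k) *ᵥ v) = h u v := by
  intro k
  induction k with
  | zero => simp
  | succ k ih =>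
    intro u v
    rw [pow_succ, ← Matrix.mulVec_mulVec, ← Matrix.mulVec_mulVec, ih, hM]

/-- The adjoint of `g(M)` up to a power of `M`. -/
theorem herm_aeval_left (hF : Fintype.card F = q ^ 2) (hM : Preserves q M) (g : F[X]) (u v : Fin n → F) :
    h (aeval M g *ᵥ u) ((M ^ g.natDegree) *ᵥ v) =
      h u (aeval M (g.map (frob hF).toRingHom).reverse *ᵥ v) := by
  have hd : (g.map (frob hF).toRingHom).natDegree = g.natDegree := natDegree_map _
  rw [Polynomial.reverse, hd]
  refine Polynomial.induction_with_natDegree_le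
    (fun f => h (aeval M f *ᵥ u) ((M ^ g.natDegree) *ᵥ v) =
      h u (aeval M (reflect g.natDegree (f.map (frob hF).toRingHom)) *ᵥ v)) g.natDegree ?_ ?_ ?_ g le_rfl
  · rw [Polynomial.map_zero, reflect_zero, map_zero, Matrix.zero_mulVec, Matrix.zero_mulVec, herm_zero_left,
      herm_zero_right hF]
  · intro j a _ hj
    rw [Polynomial.map_mul, map_C, Polynomial.map_pow, map_X, reflect_C_mul_X_pow, revAt_le hj]
    simp only [map_mul, aeval_C, map_pow, aeval_X, Algebra.algebraMap_eq_smul_one, smul_mul_assoc, one_mul,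
      Matrix.smul_mulVec]
    rw [herm_smul_left, herm_smul_right]
    congr 1
    · exact (pow_q_q hF a).symm
    · conv_lhs => rw [show g.natDegree = j + (g.natDegree - j) by omega, pow_add, ← Matrix.mulVec_mulVec,
        preserves_pow hM]
  · intro a b _ _ iha ihb
    simp only [Polynomial.map_add, reflect_add, map_add, Matrix.add_mulVec]
    rw [herm_add_left, herm_add_right hF, iha, ihb]

/-- A matrix is singular at an irreducible factor of its characteristic polynomial. -/
theorem exists_ker {g : F[X]} (hi : Irreducible g) (hg : g ∣ M.charpoly) :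
    ∃ v : Fin n → F, v ≠ 0 ∧ aeval M g *ᵥ v = 0 := by
  haveI : Fact (Irreducible g) := ⟨hi⟩
  let L := AdjoinRoot g
  let f := algebraMap F L
  have hr : (M.map f).charpoly.IsRoot (AdjoinRoot.root g) := by
    rw [Matrix.charpoly_map, IsRoot.def, eval_map, ← aeval_def, AdjoinRoot.aeval_eq, AdjoinRoot.mk_eq_zero]
    exact hg
  rw [IsRoot.def, Matrix.eval_charpoly] at hr
  obtain ⟨w, hw, hw0⟩ := Matrix.exists_mulVec_eq_zero_iff.mpr hr
  have hw1 : (M.map f) *ᵥ w = AdjoinRoot.root g • w := by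
    rw [Matrix.sub_mulVec, sub_eq_zero] at hw0
    rw [← hw0]
    funext i
    simp [Matrix.scalar_apply, Matrix.mulVec_diagonal]
  have hev : Module.End.HasEigenvector (Matrix.toLin' (M.map f)) (AdjoinRoot.root g) w :=
    ⟨Module.End.mem_eigenspace_iff.mpr (by rw [Matrix.toLin'_apply]; exact hw1), hw⟩
  have h1 := Module.End.aeval_apply_of_hasEigenvector (p := g.map f) hev
  rw [eval_map, ← aeval_def, AdjoinRoot.aeval_eq, AdjoinRoot.mk_self, zero_smul] at h1
  have h2 : aeval (Matrix.toLin' (M.map f)) (g.map f) = Matrix.toLin' ((aeval M g).map f) := by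
    rw [aeval_toLin', aeval_map_algebraMap]
    congr 1
    exact aeval_algHom_apply ((Algebra.ofId F L).mapMatrix) M g
  rw [h2, Matrix.toLin'_apply] at h1
  have hdet : ((aeval M g).map f).det = 0 := Matrix.exists_mulVec_eq_zero_iff.mp ⟨w, hw, h1⟩
  have : (aeval M g).det = 0 := f.injective (by rw [RingHom.map_det, map_zero]; exact hdet)
  exact Matrix.exists_mulVec_eq_zero_iff.mpr this

/-- The kernel of `g(M)`. -/
noncomputable def kerG (M : Matrix (Fin n) (Fin n) F) (g : F[X]) : Submodule F (Fin n → F) :=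
  LinearMap.ker (Matrix.toLin' (aeval M g))

theorem mem_kerG {g : F[X]} {v : Fin n → F} : v ∈ kerG M g ↔ aeval M g *ᵥ v = 0 := by
  rw [kerG, LinearMap.mem_ker, Matrix.toLin'_apply]

theorem kerG_stable {g : F[X]} {v : Fin n → F} (hv : v ∈ kerG M g) : M *ᵥ v ∈ kerG M g := by
  rw [mem_kerG] at hv ⊢
  rw [Matrix.mulVec_mulVec]
  have hcomm : aeval M g * M = M * aeval M g := by
    have e := congrArg (aeval M) (mul_comm g X)
    rwa [map_mul, map_mul, aeval_X] at e
  rw [hcomm, ← Matrix.mulVec_mulVec, hv, Matrix.mulVec_zero]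

/-- The kernel of a non-self-dual irreducible polynomial is totally isotropic. -/
theorem kerG_ti (hF : Fintype.card F = q ^ 2) (hM : Preserves q M) {g : F[X]} (hi : Irreducible g)
    (hm : g.Monic) (hd : 2 ≤ g.natDegree) (hne : dual hF g ≠ g) {u v : Fin n → F}
    (hu : u ∈ kerG M g) (hv : v ∈ kerG M g) : h u v = 0 := by
  set rev := (g.map (frob hF).toRingHom).reverse with hrev
  have h0 := coeff_zero_ne hi hd
  have hrev0 : rev ≠ 0 := by
    rw [hrev, Ne, reverse_eq_zero, Polynomial.map_eq_zero]; exact hi.ne_zero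
  have hnd : ¬ g ∣ rev := by
    intro hdvd
    apply hne
    have h2 : g ∣ dual hF g := by rw [dual]; exact dvd_mul_of_dvd_right hdvd _
    have hmon : (dual hF g).Monic := by
      rw [dual, Monic, leadingCoeff_mul, leadingCoeff_C, reverse_leadingCoeff, trailingCoeff,
        natTrailingDegree_eq_zero.mpr (Or.inr (by
          rw [coeff_map]; exact fun e => h0 ((frob hF).toRingHom.injective (e.trans (map_zero _).symm)))),
        coeff_map]
      show (g.coeff 0 ^ q)⁻¹ * g.coeff 0 ^ q = 1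
      exact inv_mul_cancel₀ (pow_ne_zero _ h0)
    exact eq_of_monic_of_dvd_of_natDegree_le hm hmon h2 (dual_natDegree hF h0).le
  obtain ⟨a, b, hab⟩ := hi.coprime_iff_not_dvd.mpr hnd
  have hv2 : v = aeval M rev *ᵥ (aeval M b *ᵥ v) := by
    have h3 := congrArg (fun P => aeval M P *ᵥ v) hab
    simp only [map_add, map_mul, map_one, Matrix.one_mulVec, Matrix.add_mulVec, ← Matrix.mulVec_mulVec,
      mem_kerG.mp hv, Matrix.mulVec_zero, zero_add] at h3
    conv_lhs => rw [← h3]
    rw [Matrix.mulVec_mulVec, Matrix.mulVec_mulVec, ← map_mul, ← map_mul, mul_comm]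
  rw [hv2, hrev, ← herm_aeval_left hF hM, mem_kerG.mp hu, herm_zero_left]

/-- An eigenvector is orthogonal to the kernel of an irreducible polynomial of larger degree. -/
theorem eig_perp_kerG (hF : Fintype.card F = q ^ 2) (hM : Preserves q M) {g : F[X]} (hi : Irreducible g)
    (hd : 2 ≤ g.natDegree) {v w : Fin n → F} {c : F} (hv0 : v ≠ 0) (hv : M *ᵥ v = c • v) (hw : w ∈ kerG M g) :
    h w v = 0 := by
  set rev := (g.map (frob hF).toRingHom).reverse with hrev
  have hev : Module.End.HasEigenvector (Matrix.toLin' M) c v :=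
    ⟨Module.End.mem_eigenspace_iff.mpr (by rw [Matrix.toLin'_apply]; exact hv), hv0⟩
  have h1 : ∀ P : F[X], aeval M P *ᵥ v = P.eval c • v := by
    intro P
    have := Module.End.aeval_apply_of_hasEigenvector (p := P) hev
    rwa [aeval_toLin', Matrix.toLin'_apply] at this
  have h0 := coeff_zero_ne hi hd
  have hc : rev.eval c ≠ 0 := by
    intro e
    rcases eq_or_ne c 0 with rfl | hc0
    · rw [← coeff_zero_eq_eval_zero, hrev, coeff_zero_reverse] at e
      exact leadingCoeff_ne_zero.mpr (Polynomial.map_ne_zero hi.ne_zero) e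
    · have e2 : eval₂ (RingHom.id F) c rev = 0 := by rw [eval₂_id]; exact e
      rw [hrev] at e2
      replace e2 := eval₂_inv_of_reverse _ hc0 e2
      rw [eval₂_id] at e2
      have e3 : (g.map (frob hF).toRingHom).eval (frob hF ((c⁻¹) ^ q)) = 0 := by
        rw [frob_apply, pow_q_q hF]; exact e2
      rw [eval_map, show (frob hF (c⁻¹ ^ q)) = (frob hF).toRingHom (c⁻¹ ^ q) from rfl,
        eval₂_at_apply] at e3
      have e4 : g.eval ((c⁻¹) ^ q) = 0 := (frob hF).toRingHom.injective (e3.trans (map_zero _).symm)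
      have := natDegree_eq_of_degree_eq_some (n := 1) (degree_eq_one_of_irreducible_of_root hi e4)
      omega
  have h2 := herm_aeval_left hF hM g w v
  rw [mem_kerG.mp hw, herm_zero_left, ← hrev, h1, herm_smul_right] at h2
  exact (mul_eq_zero.mp h2.symm).resolve_left (pow_ne_zero _ hc)

end Cfsg.Agent.H55.Cover.UPoly
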