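import Cfsg.Agent.H55.Cover.UBasic
import Cfsg.Agent.H55.Cover.UPoly

/-!
`PSU₄(q)`: every element fixes an anisotropic point or a totally isotropic line.
-/

set_option autoImplicit false
set_option linter.style.haveILetI false
set_option linter.unusedSectionVars false

namespace Cfsg.Agent.H55.Cover.UFour

open Cfsg Cfsg.Agent.Unitary Polynomial
open Cfsg.Agent.H55.Cover.UBasic Cfsg.Agent.H55.Cover.UPoly
open scoped Matrix

variable {F : Type*} [Field F] [Fintype F] {q : ℕ}

/-- Isotropic vectors in a set closed under combinations are orthogonal. -/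
theorem polar_zero {n : ℕ} (hF : Fintype.card F = q ^ 2) {W : Submodule F (Fin n → F)}
    (h : ∀ u ∈ W, hermForm n F q u u = 0) {u v : Fin n → F} (hu : u ∈ W) (hv : v ∈ W) :
    hermForm n F q u v = 0 := by
  by_contra huv
  obtain ⟨a, ha⟩ := exists_trace_ne_zero hF
  apply ha
  have h1 := h _ (W.add_mem (W.smul_mem (a / hermForm n F q u v) hu) hv)
  rw [herm_self_add hF, h _ (W.smul_mem _ hu), h v hv, add_zero, zero_add, herm_smul_left,
    div_mul_cancel₀ a huv] at h1
  exact h1

/-- The stabiliser of a subspace. -/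
def planeGrp {n : ℕ} {G : Type*} [Group G] [Finite G] (toM : G →* Matrix (Fin n) (Fin n) F)
    (W : Submodule F (Fin n → F)) : Subgroup G where
  carrier := {g | ∀ v ∈ W, toM g *ᵥ v ∈ W}
  one_mem' v hv := by rwa [map_one, Matrix.one_mulVec]
  mul_mem' {a b} ha hb v hv := by rw [map_mul, ← Matrix.mulVec_mulVec]; exact ha _ (hb v hv)
  inv_mem' {a} ha := by
    have hpow : ∀ k : ℕ, ∀ v ∈ W, toM (a ^ k) *ᵥ v ∈ W := by
      intro k
      induction k with
      | zero => intro v hv; rwa [pow_zero, map_one, Matrix.one_mulVec]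
      | succ k ih => intro v hv; rw [pow_succ, map_mul, ← Matrix.mulVec_mulVec]; exact ih _ (ha v hv)
    have hinv : a⁻¹ = a ^ (orderOf a - 1) := by
      apply inv_eq_of_mul_eq_one_right
      rw [← pow_succ', Nat.sub_add_cancel (orderOf_pos a), pow_orderOf_eq_one]
    intro v hv
    rw [hinv]
    exact hpow _ v hv

local notation "h4" => hermForm 4 F q

/-- The dichotomy. -/
theorem exists_point_or_plane (hF : Fintype.card F = q ^ 2) {M : Matrix (Fin 4) (Fin 4) F}
    (hM : Preserves q M) :
    (∃ (v : Fin 4 → F) (c : F), h4 v v ≠ 0 ∧ M *ᵥ v = c • v) ∨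
      ∃ f : TIFrame 4 F q 2, ∀ i, M *ᵥ f.1 i ∈ Submodule.span F (Set.range f.1) := by
  by_contra hcon
  rw [not_or] at hcon
  obtain ⟨hA, hB⟩ := hcon
  push Not at hA
  -- no invariant totally isotropic plane
  have hplane : ∀ W : Submodule F (Fin 4 → F), (∀ u ∈ W, ∀ v ∈ W, h4 u v = 0) →
      (∀ v ∈ W, M *ᵥ v ∈ W) → ∀ u ∈ W, ∀ v ∈ W, ¬ LinearIndependent F ![u, v] := by
    intro W hti hst u hu v hv hli
    have hmem : ∀ i, ![u, v] i ∈ W := fun i => by fin_cases i <;> simp [hu, hv]
    let f : TIFrame 4 F q 2 := ⟨![u, v], hli, fun i j => hti _ (hmem i) _ (hmem j)⟩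
    apply hB
    refine ⟨f, fun i => ?_⟩
    by_contra hnot
    have hli3 : LinearIndependent F (Fin.snoc ![u, v] (M *ᵥ f.1 i) : Fin 3 → Fin 4 → F) :=
      linearIndependent_finSnoc.mpr ⟨hli, hnot⟩
    have hm3 : ∀ j, (Fin.snoc ![u, v] (M *ᵥ f.1 i) : Fin 3 → Fin 4 → F) j ∈ W := by
      intro j
      induction j using Fin.lastCases with
      | last => rw [Fin.snoc_last]; exact hst _ (hmem i)
      | cast j => rw [Fin.snoc_castSucc]; exact hmem j
    have := two_mul_le_of_frame hF (⟨_, hli3, fun a b => hti _ (hm3 a) _ (hm3 b)⟩ : TIFrame 4 F q 3)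
    omega
  have hdual : Cfsg.Agent.H54.USS.dual hF M.charpoly = M.charpoly := by
    refine Cfsg.Agent.H54.USS.dual_charpoly hF ?_
    have h1 := (preserves_iff_transpose_mul hF).1 hM
    have h2 := congrArg Matrix.transpose h1
    rw [Matrix.transpose_mul, Matrix.transpose_transpose, Matrix.transpose_one] at h2
    exact h2
  have hcd : M.charpoly.natDegree = 4 := by rw [Matrix.charpoly_natDegree_eq_dim, Fintype.card_fin]
  have heig_iso : ∀ (v : Fin 4 → F) (c : F), M *ᵥ v = c • v → h4 v v = 0 := fun v c hv => by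
    by_contra hne; exact hA v c hne hv
  -- all irreducible factors are linear
  have hlin : ∀ g : F[X], Irreducible g → g ∣ M.charpoly → g.natDegree = 1 := by
    intro g0 hi0 hg0
    obtain ⟨g, hgm, hass⟩ : ∃ g : F[X], g.Monic ∧ Associated g0 g := by
      classical
      exact ⟨normalize g0, monic_normalize hi0.ne_zero, (normalize_associated g0).symm⟩
    have hi := hass.irreducible hi0
    have hg : g ∣ M.charpoly := hass.symm.dvd.trans hg0
    have hdg : g0.natDegree = g.natDegree := natDegree_eq_of_degree_eq (degree_eq_degree_of_associated hass)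
    rw [hdg]
    have hpos := hi.natDegree_pos
    have hle : g.natDegree ≤ 4 := hcd ▸ natDegree_le_of_dvd hg M.charpoly_monic.ne_zero
    by_contra h1
    obtain hd2 | hd3 | hd4 : g.natDegree = 2 ∨ g.natDegree = 3 ∨ g.natDegree = 4 := by omega
    · obtain ⟨w, hw0, hw⟩ := exists_ker hi hg
      have hwk : w ∈ kerG M g := mem_kerG.mpr hw
      have hne : Cfsg.Agent.H54.USS.dual hF g ≠ g := fun e => by
        have := odd_of_dual_eq hF hi e
        rw [hd2] at this; exact absurd this (by decide)
      refine hplane (kerG M g) (fun a ha b hb => kerG_ti hF hM hi hgm (by omega) hne ha hb)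
        (fun a ha => kerG_stable ha) w hwk (M *ᵥ w) (kerG_stable hwk) ?_
      rw [LinearIndependent.pair_iff' hw0]
      intro c hc
      have hev : Module.End.HasEigenvector (Matrix.toLin' M) c w :=
        ⟨Module.End.mem_eigenspace_iff.mpr (by rw [Matrix.toLin'_apply]; exact hc.symm), hw0⟩
      have h2 := Module.End.aeval_apply_of_hasEigenvector (p := g) hev
      rw [aeval_toLin', Matrix.toLin'_apply, hw] at h2
      have hroot : g.IsRoot c := (smul_eq_zero.mp h2.symm).resolve_right hw0
      have := natDegree_eq_of_degree_eq_some (n := 1) (degree_eq_one_of_irreducible_of_root hi hroot)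
      omega
    · -- a cubic and an eigenvector
      obtain ⟨c, hc⟩ := exists_root_of_factor hg (by rw [Fintype.card_fin]; omega)
      obtain ⟨v, hv0, hv⟩ := exists_eigvec_of_isRoot hc
      obtain ⟨k, hk⟩ := hg
      have hkm : k.Monic := hgm.of_mul_monic_left (hk ▸ M.charpoly_monic)
      have hk1 : k.natDegree = 1 := by
        have := congrArg natDegree hk
        rw [hcd, hgm.natDegree_mul hkm] at this
        omega
      have hcop : IsCoprime g k := hi.coprime_iff_not_dvd.mpr fun hdvd => by
        have := natDegree_le_of_dvd hdvd hkm.ne_zero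
        omega
      obtain ⟨d, rfl⟩ : ∃ d : F, k = X - C d :=
        ⟨-k.coeff 0, by rw [map_neg, sub_neg_eq_add]; exact hkm.eq_X_add_C hk1⟩
      have hdc : c = d := by
        rw [IsRoot.def, hk, eval_mul] at hc
        rcases mul_eq_zero.mp hc with e | e
        · exfalso
          have := natDegree_eq_of_degree_eq_some (n := 1) (degree_eq_one_of_irreducible_of_root hi e)
          omega
        · simpa [sub_eq_zero] using e
      subst hdc
      obtain ⟨a, b, hab⟩ := hcop
      let Ec : Submodule F (Fin 4 → F) := LinearMap.ker (Matrix.toLin' M - c • LinearMap.id)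
      have hEc : ∀ u, u ∈ Ec ↔ M *ᵥ u = c • u := fun u => by
        rw [LinearMap.mem_ker, LinearMap.sub_apply, LinearMap.smul_apply, LinearMap.id_apply,
          Matrix.toLin'_apply, sub_eq_zero]
      have hallz : h4 v = 0 := by
        funext y
        have h1 := congrArg (fun P => aeval M P *ᵥ y) hab
        simp only [map_add, map_one, Matrix.one_mulVec, Matrix.add_mulVec] at h1
        have hz := Matrix.aeval_self_charpoly M
        rw [hk] at hz
        have hy1 : aeval M (a * g) *ᵥ y ∈ Ec := by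
          rw [hEc]
          have e2 : aeval M (X - C c) *ᵥ (aeval M (a * g) *ᵥ y) = 0 := by
            rw [Matrix.mulVec_mulVec, ← map_mul, show (X - C c) * (a * g) = a * (g * (X - C c)) by ring,
              map_mul, hz, mul_zero, Matrix.zero_mulVec]
          rwa [map_sub, aeval_X, aeval_C, Algebra.algebraMap_eq_smul_one, Matrix.sub_mulVec, Matrix.smul_mulVec,
            Matrix.one_mulVec, sub_eq_zero] at e2
        have hy2 : aeval M (b * (X - C c)) *ᵥ y ∈ kerG M g := by
          rw [mem_kerG, Matrix.mulVec_mulVec, ← map_mul,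
            show g * (b * (X - C c)) = b * (g * (X - C c)) by ring, map_mul, hz, mul_zero, Matrix.zero_mulVec]
        rw [← h1, herm_add_right hF, polar_zero hF (fun u hu => heig_iso u c ((hEc u).mp hu)) ((hEc v).mpr hv) hy1,
          zero_add, (herm_eq_zero_symm hF).1 (eig_perp_kerG hF hM hi (by omega) hv0 hv hy2)]
        rfl
      exact hv0 (eq_zero_of_forall_right hF fun y => congrFun hallz y)
    · have hgc : g = M.charpoly :=
        (eq_of_monic_of_dvd_of_natDegree_le hgm M.charpoly_monic hg (by rw [hcd, hd4])).symm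
      have := odd_of_dual_eq hF hi (by rw [hgc, hdual])
      rw [hd4] at this; exact absurd this (by decide)
  -- triangular case
  obtain ⟨g, hi, hg⟩ := exists_irreducible_of_natDegree_pos (f := M.charpoly) (by omega)
  obtain ⟨c, hc⟩ := exists_root_of_degree_eq_one
    (show g.degree = 1 by rw [degree_eq_natDegree hi.ne_zero, hlin g hi hg]; rfl)
  obtain ⟨v, hv0, hv⟩ := exists_eigvec_of_isRoot (hc.dvd hg)
  have hvv := heig_iso v c hv
  have hc0 : c ≠ 0 := fun e => hv0 (hM.mulVec_injective hF (by rw [hv, e, zero_smul, Matrix.mulVec_zero]))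
  let P : Submodule F (Fin 4 → F) := perp q {v}
  have hPmem : ∀ x, x ∈ P ↔ h4 x v = 0 := fun x => mem_perp_singleton
  have hPst : ∀ x ∈ P, M *ᵥ x ∈ P := by
    intro x hx
    rw [hPmem] at hx ⊢
    have := hM x v
    rw [hv, herm_smul_right, hx] at this
    exact (mul_eq_zero.mp this).resolve_left (pow_ne_zero _ hc0)
  obtain ⟨w, -, hw, hwv⟩ := exists_partner hF (nondeg_top hF) Submodule.mem_top hv0 hvv
  obtain ⟨ui, hui, hui0, huii⟩ : ∃ u ∈ P, u ∉ Submodule.span F {v} ∧ h4 u u = 0 := by
    have hvw : h4 v w ≠ 0 := fun e => one_ne_zero (α := F) (by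
      rw [← hwv]; exact (herm_eq_zero_symm hF).1 e)
    have hnd := nondeg_pair hF hvv hw hvw
    have hfin := finrank_perp_add hF hnd
    have hind := indep_pair hF hvv hvw
    rw [finrank_pair hind] at hfin
    have hnd2 := nondeg_perp hF hnd
    have hf2 : 2 ≤ Module.finrank F (perp q (Submodule.span F ({v, w} : Set (Fin 4 → F)) : Set (Fin 4 → F))) := by
      omega
    obtain ⟨u, hu, hu0, huu⟩ := exists_isotropic hF hnd2 hf2
    refine ⟨u, (hPmem u).mpr (hu v (Submodule.subset_span (by simp))), fun hm => hu0 ?_, huu⟩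
    obtain ⟨a, rfl⟩ := Submodule.mem_span_singleton.mp hm
    have h1 := hu w (Submodule.subset_span (by simp))
    rw [herm_smul_left, mul_eq_zero] at h1
    rw [h1.resolve_right hvw, zero_smul]
  have hv_mem : v ∈ P := (hPmem v).mpr hvv
  -- no isotropic eigenvector modulo `v`
  have hiso : ∀ u ∈ P, ∀ μ a : F, u ∉ Submodule.span F {v} → M *ᵥ u = μ • u + a • v → h4 u u ≠ 0 := by
    intro u hu μ a hnu he huu
    have hsv : ∀ x ∈ Submodule.span F ({v, u} : Set (Fin 4 → F)), ∀ y ∈ Submodule.span F ({v, u} : Set (Fin 4 → F)),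
        h4 x y = 0 := by
      intro x hx y hy
      obtain ⟨a1, b1, rfl⟩ := Submodule.mem_span_pair.mp hx
      obtain ⟨a2, b2, rfl⟩ := Submodule.mem_span_pair.mp hy
      have h1 := (hPmem u).mp hu
      simp only [herm_add_left, herm_add_right hF, herm_smul_left, herm_smul_right, hvv, h1,
        (herm_eq_zero_symm hF).1 h1, huu, mul_zero, add_zero]
    refine hplane _ hsv (fun x hx => ?_) v (Submodule.subset_span (by simp)) u (Submodule.subset_span (by simp)) ?_
    · obtain ⟨a1, b1, rfl⟩ := Submodule.mem_span_pair.mp hx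
      rw [Matrix.mulVec_add, Matrix.mulVec_smul, Matrix.mulVec_smul, hv, he]
      exact Submodule.mem_span_pair.mpr ⟨a1 * c + b1 * a, b1 * μ, by module⟩
    · rw [LinearIndependent.pair_iff' hv0]
      intro k hk
      exact hnu (Submodule.mem_span_singleton.mpr ⟨k, hk⟩)
  -- anisotropic eigenvectors modulo `v` have eigenvalue `c`
  have hsame : ∀ u ∈ P, ∀ μ a : F, h4 u u ≠ 0 → M *ᵥ u = μ • u + a • v → μ = c := by
    intro u hu μ a huu he
    by_contra hne
    refine hA (u + (a / (μ - c)) • v) μ ?_ ?_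
    · have h1 := (hPmem u).mp hu
      simp only [herm_add_left, herm_add_right hF, herm_smul_left, herm_smul_right, hvv, h1,
        (herm_eq_zero_symm hF).1 h1, mul_zero, add_zero]
      exact huu
    · rw [Matrix.mulVec_add, Matrix.mulVec_smul, he, hv, smul_add, smul_smul, smul_smul, add_assoc, ← add_smul]
      congr 2
      field_simp [sub_ne_zero.mpr hne]
      ring
  -- an eigenvector of the quotient
  obtain ⟨u, hu, hnu, μ, a, he⟩ : ∃ u ∈ P, u ∉ Submodule.span F {v} ∧ ∃ μ a : F, M *ᵥ u = μ • u + a • v := by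
    let L : Submodule F (Fin 4 → F) := Submodule.span F {v}
    let T : P →ₗ[F] P := (Matrix.toLin' M).restrict (fun x hx => by rw [Matrix.toLin'_apply]; exact hPst x hx)
    let LP : Submodule F P := L.comap P.subtype
    have hLT : LP ≤ LP.comap T := by
      intro x hx
      rw [Submodule.mem_comap] at hx ⊢
      show (T x : Fin 4 → F) ∈ L
      obtain ⟨k, hk⟩ := Submodule.mem_span_singleton.mp hx
      refine Submodule.mem_span_singleton.mpr ⟨k * c, ?_⟩
      show (k * c) • v = Matrix.toLin' M (x : Fin 4 → F)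
      rw [show (x : Fin 4 → F) = k • v from hk.symm, Matrix.toLin'_apply, Matrix.mulVec_smul, hv, smul_smul]
    let Tb : (P ⧸ LP) →ₗ[F] (P ⧸ LP) := LP.mapQ LP T hLT
    haveI : Nontrivial (P ⧸ LP) := Submodule.Quotient.nontrivial_iff.mpr fun e => hui0 (by
      have : (⟨ui, hui⟩ : P) ∈ LP := e ▸ Submodule.mem_top
      exact this)
    have hTpow : ∀ (f : F[X]) (x : P), ((aeval T f x : P) : Fin 4 → F) = aeval M f *ᵥ (x : Fin 4 → F) := by
      intro f
      induction f using Polynomial.induction_on with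
      | C a => intro x; simp [Algebra.algebraMap_eq_smul_one, Matrix.smul_mulVec]
      | add f g hf hg =>
        intro x
        simp only [map_add, LinearMap.add_apply, Submodule.coe_add, hf, hg, Matrix.add_mulVec]
      | monomial k a ih =>
        intro x
        simp only [pow_succ, ← mul_assoc, map_mul, aeval_X, Module.End.mul_apply, ← Matrix.mulVec_mulVec] at ih ⊢
        rw [ih]
        congr 1
    have hann : aeval Tb M.charpoly = 0 := by
      have hmapQ : ∀ (f : F[X]) (x : P), aeval Tb f (Submodule.Quotient.mk x) = Submodule.Quotient.mk (aeval T f x) := by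
        intro f
        induction f using Polynomial.induction_on with
        | C a => intro x; simp [Algebra.algebraMap_eq_smul_one]
        | add f g hf hg => intro x; simp only [map_add, LinearMap.add_apply, hf, hg, Submodule.Quotient.mk_add]
        | monomial k a ih =>
          intro x
          simp only [pow_succ, ← mul_assoc, map_mul, aeval_X, Module.End.mul_apply] at ih ⊢
          rw [show Tb (Submodule.Quotient.mk x) = Submodule.Quotient.mk (T x) from Submodule.mapQ_apply _ _ _ _, ih]
      refine LinearMap.ext fun y => ?_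
      induction y using Submodule.Quotient.induction_on with
      | _ x =>
        rw [hmapQ, show aeval T M.charpoly x = 0 from Subtype.ext (by
          rw [hTpow, Matrix.aeval_self_charpoly, Matrix.zero_mulVec]; rfl)]
        simp
    obtain ⟨k, hki, hk⟩ := exists_irreducible_of_natDegree_pos (f := minpoly F Tb)
      (minpoly.natDegree_pos (IsIntegral.of_finite F Tb))
    have hk1 := hlin k hki (hk.trans (minpoly.dvd F Tb hann))
    obtain ⟨μ, hμ⟩ := exists_root_of_degree_eq_one
      (show k.degree = 1 by rw [degree_eq_natDegree hki.ne_zero, hk1]; rfl)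
    obtain ⟨y, hy⟩ := (Module.End.hasEigenvalue_of_isRoot (hμ.dvd hk)).exists_hasEigenvector
    obtain ⟨x, rfl⟩ := Submodule.Quotient.mk_surjective _ y
    have hy1 : Tb (Submodule.Quotient.mk x) = μ • Submodule.Quotient.mk x := hy.apply_eq_smul
    rw [Submodule.mapQ_apply, ← Submodule.Quotient.mk_smul, Submodule.Quotient.eq] at hy1
    obtain ⟨a, ha⟩ := Submodule.mem_span_singleton.mp hy1
    refine ⟨x, x.2, fun hm => hy.2 ((Submodule.Quotient.mk_eq_zero LP).mpr hm), μ, a, ?_⟩
    have ha' : a • v = M *ᵥ (x : Fin 4 → F) - μ • (x : Fin 4 → F) := by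
      rw [ha]; simp [T, Matrix.toLin'_apply, LinearMap.restrict_apply]
    rw [ha']; abel
  have huu := hiso u hu μ a hnu he
  have hμ := hsame u hu μ a huu he
  rw [hμ] at he
  -- the orthogonal complement of `u` inside `P`
  have hind2 : LinearIndependent F ![v, u] := by
    rw [LinearIndependent.pair_iff' hv0]
    exact fun k hk => hnu (Submodule.mem_span_singleton.mpr ⟨k, hk⟩)
  obtain ⟨l, hl⟩ : ∃ l : F, h4 (ui - l • u) u = 0 :=
    ⟨h4 ui u / h4 u u, by rw [herm_sub_left, herm_smul_left, div_mul_cancel₀ _ huu, sub_self]⟩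
  set u2 := ui - l • u with hu2
  have hu2P : u2 ∈ P := P.sub_mem hui (P.smul_mem l hu)
  have hu2v : u2 ∉ Submodule.span F {v} := by
    intro hm
    obtain ⟨b, hb⟩ := Submodule.mem_span_singleton.mp hm
    have huv := (hPmem u).mp hu
    have e : ui = b • v + l • u := by rw [hb, hu2, sub_add_cancel]
    have hl0 : l = 0 := by
      by_contra hl0
      apply huu
      have h1 := huii
      rw [e] at h1
      simp only [herm_add_left, herm_add_right hF, herm_smul_left, herm_smul_right, hvv, huv,
        (herm_eq_zero_symm hF).1 huv, mul_zero, add_zero, zero_add] at h1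
      rcases mul_eq_zero.mp h1 with e2 | e2
      · exact absurd e2 (pow_ne_zero _ hl0)
      · exact (mul_eq_zero.mp e2).resolve_left hl0
    exact hui0 (Submodule.mem_span_singleton.mpr ⟨b, by rw [e, hl0, zero_smul, add_zero]⟩)
  -- the image of `u2`
  have he2u : h4 (M *ᵥ u2) u = 0 := by
    have h1 := hM u2 u
    rw [he, hl, herm_add_right hF, herm_smul_right, herm_smul_right,
      (hPmem _).mp (hPst u2 hu2P), mul_zero, add_zero] at h1
    exact (mul_eq_zero.mp h1).resolve_left (pow_ne_zero _ hc0)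
  obtain ⟨ν, a2, he2⟩ : ∃ ν a2 : F, M *ᵥ u2 = ν • u2 + a2 • v := by
    let U : Submodule F (Fin 4 → F) := perp q (Set.range ![v, u])
    have hU : ∀ x, h4 x v = 0 → h4 x u = 0 → x ∈ U := by
      rintro x h1 h2 _ ⟨i, rfl⟩; fin_cases i
      · exact h1
      · exact h2
    let Φ : (Fin 4 → F) →ₗ[F] (Fin 2 → F) := LinearMap.pi fun i => hermL 4 q (![v, u] i)
    have hsurj : Function.Surjective Φ := fun t => by
      obtain ⟨z, hz⟩ := exists_herm_eq hF hind2 t
      exact ⟨z, funext fun i => hz i⟩
    have hUker : U = LinearMap.ker Φ := by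
      ext x
      rw [LinearMap.mem_ker]
      constructor
      · intro hx; funext i; exact hx _ ⟨i, rfl⟩
      · rintro hx _ ⟨i, rfl⟩; exact congrFun hx i
    have hfU : Module.finrank F U = 2 := by
      have := LinearMap.finrank_range_add_finrank_ker Φ
      rw [LinearMap.range_eq_top.mpr hsurj, finrank_top, Module.finrank_pi, Module.finrank_pi,
        Fintype.card_fin, Fintype.card_fin] at this
      rw [hUker]; omega
    have hind3 : LinearIndependent F ![v, u2] := by
      rw [LinearIndependent.pair_iff' hv0]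
      exact fun k hk => hu2v (Submodule.mem_span_singleton.mpr ⟨k, hk⟩)
    have hvu : h4 v u = 0 := (herm_eq_zero_symm hF).1 ((hPmem u).mp hu)
    have hspan : Submodule.span F ({v, u2} : Set (Fin 4 → F)) = U := by
      refine Submodule.eq_of_le_of_finrank_eq ?_ (by rw [finrank_pair hind3, hfU])
      rw [Submodule.span_le]
      rintro x (rfl | rfl)
      · exact hU _ hvv hvu
      · exact hU _ ((hPmem _).mp hu2P) hl
    have := hU _ ((hPmem _).mp (hPst u2 hu2P)) he2u
    rw [← hspan] at this
    obtain ⟨k1, k2, hk⟩ := Submodule.mem_span_pair.mp this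
    exact ⟨k2, k1, by rw [← hk]; abel⟩
  have hν := hsame u2 hu2P ν a2 (hiso u2 hu2P ν a2 hu2v he2) he2
  rw [hν] at he2
  refine hiso ui hui c (a2 + l * a) hui0 ?_ huii
  have e : ui = u2 + l • u := by rw [hu2, sub_add_cancel]
  rw [e, Matrix.mulVec_add, Matrix.mulVec_smul, he, he2]
  module

/-- `PSU₄(q)` is covered by two subgroups. -/
theorem psu_four_cover (hF : Fintype.card F = q ^ 2) : TwoCover (Cfsg.PSU 4 F q) := by
  classical
  let toM := suMat 4 F q
  let e : Fin 4 → Fin 4 → F := fun i => Pi.single i 1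
  have hee : ∀ i j, h4 (e i) (e j) = if i = j then 1 else 0 := herm_single_single hF
  have he0 : e 0 ≠ 0 := fun h0 => by simpa [e] using congrFun h0 0
  obtain ⟨ε, hε⟩ := exists_norm_eq_neg_one hF
  have hfr : ∀ i j k l : Fin 4, i ≠ j → k ≠ l → i ≠ k → i ≠ l → j ≠ k → j ≠ l →
      ∃ f : TIFrame 4 F q 2, f.1 = ![e i + ε • e j, e k + ε • e l] := by
    intro i j k l hij hkl hik hil hjk hjl
    refine ⟨⟨![e i + ε • e j, e k + ε • e l], ?_, ?_⟩, rfl⟩
    · rw [LinearIndependent.pair_iff]
      intro s t hst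
      exact ⟨by simpa [e, hik, hil, hij] using congrFun hst i,
        by simpa [e, Ne.symm hik, Ne.symm hjk, hkl] using congrFun hst k⟩
    · intro a b
      fin_cases a <;> fin_cases b <;>
        simp [herm_add_left, herm_add_right hF, herm_smul_left, herm_smul_right, hee, hij, Ne.symm hij, hkl,
          Ne.symm hkl, hik, Ne.symm hik, hil, Ne.symm hil, hjk, Ne.symm hjk, hjl, Ne.symm hjl] <;>
        linear_combination hε
  obtain ⟨f0, hf0⟩ := hfr 0 1 2 3 (by decide) (by decide) (by decide) (by decide) (by decide) (by decide)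
  obtain ⟨f1, hf1⟩ := hfr 0 2 1 3 (by decide) (by decide) (by decide) (by decide) (by decide) (by decide)
  let W0 := Submodule.span F (Set.range f0.1)
  have hne0 : ∀ (x : SU 4 F q) {w : Fin 4 → F}, w ≠ 0 → toM x *ᵥ w ≠ 0 := fun x w hw h0 =>
    hw (by rw [← suMat_inv_mulVec x h0, Matrix.mulVec_zero])
  refine TwoCover.quotient _ (lineGrp toM (e 0) he0) (planeGrp toM W0) ?_ ?_ ?_ ?_ ?_
  · intro z hz
    obtain ⟨c, hc⟩ := center_smul hF (by norm_num) hz
    exact ⟨c, hc _⟩
  · intro z hz v hv
    obtain ⟨c, hc⟩ := center_smul hF (by norm_num) hz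
    show toM z *ᵥ v ∈ W0
    rw [hc]; exact W0.smul_mem c hv
  · intro htop
    obtain ⟨x, hx⟩ := exists_map_norm_one hF (by norm_num) (v := e 0) (w := e 1)
      (by rw [hee, if_pos rfl]) (by rw [hee, if_pos rfl])
    obtain ⟨c, hc⟩ : x ∈ lineGrp toM (e 0) he0 := by rw [htop]; trivial
    rw [hx] at hc
    simpa [e] using congrFun hc 1
  · intro htop
    obtain ⟨x, hx⟩ := exists_map_frame hF (by norm_num) f0 f1
    obtain ⟨c, hc⟩ := hx 0
    have hmem : toM x *ᵥ f0.1 0 ∈ W0 := (htop ▸ Subgroup.mem_top x : x ∈ planeGrp toM W0) _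
      (Submodule.subset_span ⟨0, rfl⟩)
    have hcne : c ≠ 0 := fun h0 => hne0 x (f0.2.1.ne_zero 0) (by rw [hc, h0, zero_smul])
    rw [hc] at hmem
    have hm2 : f1.1 0 ∈ W0 := by
      have := W0.smul_mem c⁻¹ hmem
      rwa [inv_smul_smul₀ hcne] at this
    obtain ⟨t, ht⟩ := (Submodule.mem_span_range_iff_exists_fun F).mp hm2
    rw [Fin.sum_univ_two, hf0, hf1] at ht
    have hε0 : ε ≠ 0 := fun h0 => by simp [h0] at hε
    have a1 := congrFun ht 0
    have a2 := congrFun ht 1
    simp [e, hε0] at a1 a2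
    rw [a2] at a1
    exact one_ne_zero a1.symm
  · intro x
    rcases exists_point_or_plane hF (suMat_preserves x) with ⟨v, c, hv, hxv⟩ | ⟨f, hf⟩
    · obtain ⟨l, hl0, hl⟩ := exists_smul_norm_one hF hv
      obtain ⟨P, hP⟩ := exists_map_norm_one hF (by norm_num) (v := e 0) (w := l • v) (by rw [hee, if_pos rfl]) hl
      refine ⟨P⁻¹, Or.inl ⟨c, ?_⟩⟩
      rw [inv_inv, map_mul, map_mul, ← Matrix.mulVec_mulVec, ← Matrix.mulVec_mulVec, hP, Matrix.mulVec_smul,
        hxv, smul_comm, Matrix.mulVec_smul, suMat_inv_mulVec P hP]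
    · obtain ⟨P, hP⟩ := exists_map_frame hF (by norm_num) f0 f
      choose d hd using hP
      have hd0 : ∀ i, d i ≠ 0 := fun i h0 => hne0 P (f0.2.1.ne_zero i) (by rw [hd, h0, zero_smul])
      let W1 := Submodule.span F (Set.range f.1)
      have h01 : ∀ v ∈ W0, toM P *ᵥ v ∈ W1 := by
        intro v hv
        obtain ⟨t, rfl⟩ := (Submodule.mem_span_range_iff_exists_fun F).mp hv
        rw [Matrix.mulVec_sum]
        refine W1.sum_mem fun i _ => ?_
        rw [Matrix.mulVec_smul, hd]
        exact W1.smul_mem _ (W1.smul_mem _ (Submodule.subset_span ⟨i, rfl⟩))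
      have hx1 : ∀ v ∈ W1, toM x *ᵥ v ∈ W1 := by
        intro v hv
        obtain ⟨t, rfl⟩ := (Submodule.mem_span_range_iff_exists_fun F).mp hv
        rw [Matrix.mulVec_sum]
        exact W1.sum_mem fun i _ => by rw [Matrix.mulVec_smul]; exact W1.smul_mem _ (hf i)
      have h10 : ∀ v ∈ W1, toM P⁻¹ *ᵥ v ∈ W0 := by
        intro v hv
        obtain ⟨t, rfl⟩ := (Submodule.mem_span_range_iff_exists_fun F).mp hv
        rw [Matrix.mulVec_sum]
        refine W0.sum_mem fun i _ => ?_
        have : toM P⁻¹ *ᵥ f.1 i = (d i)⁻¹ • f0.1 i := by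
          apply (eq_inv_smul_iff₀ (hd0 i)).mpr
          rw [← Matrix.mulVec_smul]
          exact suMat_inv_mulVec P (hd i)
        rw [Matrix.mulVec_smul, this]
        exact W0.smul_mem _ (W0.smul_mem _ (Submodule.subset_span ⟨i, rfl⟩))
      refine ⟨P⁻¹, Or.inr fun v hv => ?_⟩
      show toM (P⁻¹ * x * P⁻¹⁻¹) *ᵥ v ∈ W0
      rw [inv_inv, map_mul, map_mul, ← Matrix.mulVec_mulVec, ← Matrix.mulVec_mulVec]
      exact h10 _ (hx1 _ (h01 v hv))

end Cfsg.Agent.H55.Cover.UFour
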