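import Cfsg.Agent.H55.Cover.UBasic
import Cfsg.Agent.H55.Cover.UPoly
import Cfsg.Agent.Unitary.Eichler
import Cfsg.Agent.Unitary.Order

/-!
`PSU₃(3ᵃ)`: every element fixes an anisotropic point or is conjugate into the normaliser of a cubic field.
-/

set_option autoImplicit false
set_option linter.style.haveILetI false
set_option linter.unusedSectionVars false

namespace Cfsg.Agent.H55.Cover.UThree

open Cfsg Cfsg.Agent.Unitary Polynomial
open Cfsg.Agent.H55.Cover.UBasic Cfsg.Agent.H55.Cover.UPoly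
open scoped Matrix

variable {F : Type*} [Field F] [Fintype F] {q : ℕ}

local notation "h3" => hermForm 3 F q
local notation "M3" => Matrix (Fin 3) (Fin 3) F

theorem eq_one_of_pow_three [CharP F 3] {x : F} (h : x ^ 3 = 1) : x = 1 := by
  haveI : Fact (Nat.Prime 3) := ⟨Nat.prime_three⟩
  exact frobenius_inj F 3 (by simpa [frobenius_def] using h)

theorem two_eq_neg_one [CharP F 3] : (2 : F) = -1 := by
  have : (3 : F) = 0 := by exact_mod_cast CharP.cast_eq_zero F 3
  linear_combination this

/-! ### Triangular elements -/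

/-- Without anisotropic eigenvectors an eigenvalue forces a regular unipotent element. -/
theorem unipotent_of_root (hF : Fintype.card F = q ^ 2) [CharP F 3] {M : M3} (hM : Preserves q M)
    (hdet : M.det = 1) (hA : ∀ (v : Fin 3 → F) (c : F), h3 v v ≠ 0 → M *ᵥ v ≠ c • v) {c : F}
    (hc : M.charpoly.IsRoot c) : (M - 1) ^ 3 = 0 ∧ (M - 1) ^ 2 ≠ 0 := by
  obtain ⟨v, hv0, hv⟩ := exists_eigvec_of_isRoot hc
  have hvv : h3 v v = 0 := by by_contra h; exact hA v c h hv
  have hc0 : c ≠ 0 := fun e => hv0 (hM.mulVec_injective hF (by rw [hv, e, zero_smul, Matrix.mulVec_zero]))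
  let P : Submodule F (Fin 3 → F) := perp q {v}
  have hPmem : ∀ x, x ∈ P ↔ h3 x v = 0 := fun x => mem_perp_singleton
  have hvP : v ∈ P := (hPmem v).mpr hvv
  have hPst : ∀ x ∈ P, M *ᵥ x ∈ P := by
    intro x hx
    rw [hPmem] at hx ⊢
    have := hM x v
    rw [hv, herm_smul_right, hx] at this
    exact (mul_eq_zero.mp this).resolve_left (pow_ne_zero _ hc0)
  obtain ⟨z, hz⟩ : ∃ z, h3 z v = 1 := by
    obtain ⟨z, hz⟩ := exists_herm_eq hF (b := fun _ : Fin 1 => v) (linearIndependent_unique_iff.2 hv0)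
      (fun _ => (1 : F))
    exact ⟨z, hz 0⟩
  let f : (Fin 3 → F) →ₗ[F] F := hermL 3 q v
  have hf : ∀ x, f x = h3 x v := fun x => rfl
  have hPk : P = LinearMap.ker f := by
    ext x; rw [hPmem, LinearMap.mem_ker, hf]
  have hPd : Module.finrank F P = 2 := by
    have := LinearMap.finrank_range_add_finrank_ker f
    rw [LinearMap.range_eq_top.mpr (fun t => ⟨t • z, by rw [map_smul, hf, hz, smul_eq_mul, mul_one]⟩),
      finrank_top, Module.finrank_self, Module.finrank_pi, Fintype.card_fin] at this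
    rw [hPk]; omega
  obtain ⟨u, huP, huv⟩ : ∃ u ∈ P, u ∉ Submodule.span F {v} := by
    by_contra h
    push Not at h
    have := Submodule.finrank_mono (show P ≤ Submodule.span F {v} from h)
    rw [hPd, finrank_span_singleton hv0] at this
    omega
  have hli : LinearIndependent F ![v, u] := by
    rw [LinearIndependent.pair_iff' hv0]
    exact fun k hk => huv (Submodule.mem_span_singleton.mpr ⟨k, hk⟩)
  have hsp : ∀ x ∈ P, ∃ s t : F, x = s • v + t • u := by
    have : Submodule.span F ({v, u} : Set (Fin 3 → F)) = P := by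
      refine Submodule.eq_of_le_of_finrank_eq ?_ (by rw [finrank_pair hli, hPd])
      rw [Submodule.span_le]
      rintro x (rfl | rfl)
      · exact hvP
      · exact huP
    intro x hx
    rw [← this] at hx
    obtain ⟨s, t, h⟩ := Submodule.mem_span_pair.mp hx
    exact ⟨s, t, h.symm⟩
  have huv0 : h3 u v = 0 := (hPmem u).mp huP
  have hvu0 : h3 v u = 0 := (herm_eq_zero_symm hF).1 huv0
  have huu : h3 u u ≠ 0 := by
    intro e
    have := two_mul_le_of_frame hF (⟨![v, u], hli, fun i j => by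
      fin_cases i <;> fin_cases j
      · exact hvv
      · exact hvu0
      · exact huv0
      · exact e⟩ : TIFrame 3 F q 2)
    omega
  obtain ⟨a, d, hu⟩ := hsp _ (hPst u huP)
  have hdc : d = c := by
    by_contra hne
    refine hA (u + (a / (d - c)) • v) d ?_ ?_
    · simp only [herm_add_left, herm_add_right hF, herm_smul_left, herm_smul_right, hvv, huv0, hvu0, mul_zero,
        add_zero]
      exact huu
    · rw [Matrix.mulVec_add, Matrix.mulVec_smul, hu, hv]
      match_scalars
      · field_simp [sub_ne_zero.mpr hne]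
        ring
      · ring
  rw [hdc] at hu
  have hnc : c * c ^ q = 1 := by
    have h1 := hM u u
    simp only [hu, herm_add_left, herm_add_right hF, herm_smul_left, herm_smul_right, hvv, huv0, hvu0,
      mul_zero, add_zero, zero_add] at h1
    exact mul_right_cancel₀ huu (by linear_combination h1)
  have hA1 : ∀ x, M *ᵥ x - c • x ∈ P := by
    intro x
    rw [hPmem, herm_sub_left, herm_smul_left]
    have h1 := hM x v
    rw [hv, herm_smul_right] at h1
    calc h3 (M *ᵥ x) v - c * h3 x v = (c * c ^ q) * h3 (M *ᵥ x) v - c * h3 x v := by rw [hnc, one_mul]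
      _ = 0 := by rw [mul_assoc, h1, sub_self]
  let D : M3 := M - c • 1
  have hD : ∀ x, D *ᵥ x = M *ᵥ x - c • x := fun x => by
    rw [Matrix.sub_mulVec, Matrix.smul_mulVec, Matrix.one_mulVec]
  have hDv : D *ᵥ v = 0 := by rw [hD, hv, sub_self]
  have hDu : D *ᵥ u = a • v := by rw [hD, hu, add_sub_cancel_right]
  have hD3 : D ^ 3 = 0 := by
    refine Matrix.toLin'.injective (LinearMap.ext fun x => ?_)
    simp only [Matrix.toLin'_apply, map_zero, LinearMap.zero_apply, pow_succ, pow_zero, one_mul,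
      ← Matrix.mulVec_mulVec]
    have h0 := hA1 x
    rw [← hD] at h0
    obtain ⟨s, t, hst⟩ := hsp _ h0
    rw [hst]
    simp only [Matrix.mulVec_add, Matrix.mulVec_smul, hDv, hDu, smul_zero, add_zero, zero_add]
  have hM3 : M ^ 3 = (c ^ 3) • (1 : M3) := by
    haveI : Fact (Nat.Prime 3) := ⟨Nat.prime_three⟩
    have hcm : Commute M (c • (1 : M3)) := (Commute.one_right M).smul_right c
    haveI : CharP M3 3 := inferInstance
    have := sub_pow_char_of_commute (p := 3) hcm
    rw [show M - c • (1 : M3) = D from rfl, hD3, _root_.smul_pow, one_pow] at this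
    exact sub_eq_zero.mp this.symm
  have hc1 : c = 1 := by
    have := congrArg Matrix.det hM3
    rw [Matrix.det_pow, hdet, one_pow, Matrix.det_smul, Matrix.det_one, Fintype.card_fin, mul_one] at this
    exact eq_one_of_pow_three (eq_one_of_pow_three this.symm)
  subst hc1
  have hD1 : D = M - 1 := by simp [D]
  refine ⟨hD1 ▸ hD3, fun h2 => ?_⟩
  rw [← hD1] at h2
  have ha : a ≠ 0 := fun e => hA u 1 huu (by rw [hu, e, zero_smul, zero_add])
  -- the image of `D` lies in the fixed line
  have hz2 := hA1 z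
  rw [← hD] at hz2
  obtain ⟨s, t, hst⟩ := hsp _ hz2
  have ht : t = 0 := by
    have h4 : D *ᵥ (D *ᵥ z) = 0 := by rw [Matrix.mulVec_mulVec, ← pow_two, h2, Matrix.zero_mulVec]
    rw [hst, Matrix.mulVec_add, Matrix.mulVec_smul, Matrix.mulVec_smul, hDv, hDu, smul_zero, zero_add,
      smul_smul, smul_eq_zero] at h4
    exact (mul_eq_zero.mp (h4.resolve_right hv0)).resolve_right ha
  rw [ht, zero_smul, add_zero, hD, one_smul] at hst
  have hMz : M *ᵥ z = z + s • v := by rw [← hst]; abel
  have h1 := hM z u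
  rw [hMz, hu, one_smul] at h1
  simp only [herm_add_left, herm_add_right hF, herm_smul_left, herm_smul_right, hvv, hvu0, hz, mul_zero,
    mul_one, add_zero, zero_add] at h1
  exact pow_ne_zero _ ha (by linear_combination h1)

/-! ### The class of regular unipotent elements -/

theorem herm_nil {M : M3} (hF : Fintype.card F = q ^ 2) (hM : Preserves q M) (u v : Fin 3 → F) :
    h3 ((M - 1) *ᵥ u) v + h3 u ((M - 1) *ᵥ v) + h3 ((M - 1) *ᵥ u) ((M - 1) *ᵥ v) = 0 := by
  have h1 := hM u v
  have e : ∀ x, M *ᵥ x = (M - 1) *ᵥ x + x := fun x => by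
    rw [Matrix.sub_mulVec, Matrix.one_mulVec, sub_add_cancel]
  rw [e u, e v] at h1
  simp only [herm_add_left, herm_add_right hF] at h1
  linear_combination h1

/-- The Gram matrix of a normalised regular unipotent element. -/
def gramU : Matrix (Fin 3) (Fin 3) F := !![0, -1, 1; -1, -1, 0; 1, 0, 0]

/-- A normalised cyclic basis of a regular unipotent element. -/
theorem exists_normal_basis (hF : Fintype.card F = q ^ 2) [CharP F 3] {M : M3} (hM : Preserves q M)
    (h3' : (M - 1) ^ 3 = 0) (h2 : (M - 1) ^ 2 ≠ 0) :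
    ∃ b : Fin 3 → Fin 3 → F, LinearIndependent F b ∧ M *ᵥ b 0 = b 0 + b 1 ∧ M *ᵥ b 1 = b 1 + b 2 ∧
      M *ᵥ b 2 = b 2 ∧ ∀ i j, h3 (b i) (b j) = gramU (F := F) i j := by
  set N := M - 1 with hN
  have e : ∀ x, M *ᵥ x = x + N *ᵥ x := fun x => by
    rw [hN, Matrix.sub_mulVec, Matrix.one_mulVec, add_sub_cancel]
  obtain ⟨w, hw⟩ : ∃ w, N *ᵥ (N *ᵥ w) ≠ 0 := by
    by_contra h
    push Not at h
    refine h2 (Matrix.toLin'.injective (LinearMap.ext fun x => ?_))
    rw [Matrix.toLin'_apply, pow_two, ← Matrix.mulVec_mulVec, h, map_zero, LinearMap.zero_apply]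
  set w1 := N *ᵥ w with hw1
  set w2 := N *ᵥ w1 with hw2
  have hN2 : N *ᵥ w2 = 0 := by
    rw [hw2, hw1, Matrix.mulVec_mulVec, Matrix.mulVec_mulVec, ← pow_three', h3', Matrix.zero_mulVec]
  have hind : ∀ (s t r : F), s • w + t • w1 + r • w2 = 0 → s = 0 ∧ t = 0 ∧ r = 0 := by
    intro s t r h
    have a1 := congrArg (N *ᵥ ·) h
    simp only [Matrix.mulVec_add, Matrix.mulVec_smul, Matrix.mulVec_zero, ← hw1, ← hw2, hN2, smul_zero,
      add_zero] at a1
    have a2 := congrArg (N *ᵥ ·) a1
    simp only [Matrix.mulVec_add, Matrix.mulVec_smul, Matrix.mulVec_zero, ← hw2, hN2, smul_zero, add_zero] at a2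
    have hs := (smul_eq_zero.mp a2).resolve_right hw
    rw [hs, zero_smul, zero_add] at a1 h
    have ht := (smul_eq_zero.mp a1).resolve_right hw
    rw [ht, zero_smul, zero_add] at h
    exact ⟨hs, ht, (smul_eq_zero.mp h).resolve_right hw⟩
  have hq := q_ne_zero hF
  have h21 : h3 w2 w1 = 0 := by
    have := herm_nil hF hM w2 w
    rwa [← hN, hN2, herm_zero_left, herm_zero_left, zero_add, add_zero, ← hw1] at this
  have h22 : h3 w2 w2 = 0 := by
    have := herm_nil hF hM w2 w1
    rwa [← hN, hN2, herm_zero_left, herm_zero_left, zero_add, add_zero, ← hw2] at this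
  have h12 : h3 w1 w2 = 0 := (herm_eq_zero_symm hF).1 h21
  set b := h3 w1 w with hb
  set c := h3 w2 w with hc
  have h11 : h3 w1 w1 = -c := by
    have := herm_nil hF hM w1 w
    rw [← hN, ← hw1, ← hw2, h21, add_zero] at this
    linear_combination this
  have hcb : c = b + b ^ q := by
    have := herm_nil hF hM w w
    rw [← hN, ← hw1, h11, ← herm_swap hF w1 w, ← hb] at this
    linear_combination -this
  have hc0 : c ≠ 0 := by
    intro e0
    apply hw
    refine eq_zero_of_forall_right hF fun y => ?_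
    have hli : LinearIndependent F ![w, w1, w2] := by
      rw [Fintype.linearIndependent_iff]
      intro g hg i
      rw [Fin.sum_univ_three] at hg
      obtain ⟨p1, p2, p3⟩ := hind _ _ _ hg
      fin_cases i <;> assumption
    have htop : y ∈ Submodule.span F (Set.range ![w, w1, w2]) := by
      rw [hli.span_eq_top_of_card_eq_finrank' (by simp)]; trivial
    obtain ⟨g, hg⟩ := (Submodule.mem_span_range_iff_exists_fun F).mp htop
    rw [← hg, Fin.sum_univ_three]
    simp only [Matrix.cons_val_zero, Matrix.cons_val_one, Matrix.cons_val, herm_add_right hF, herm_smul_right,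
      ← hc, e0, h21, h22, mul_zero, add_zero]
  have hcq : c ^ q = c := by
    rw [hcb, add_pow_q hF, pow_q_q hF, add_comm]
  obtain ⟨α, hα⟩ := exists_norm_eq hF (a := c⁻¹) (by rw [inv_pow, hcq])
  set δ := α * α ^ q * b + 1 with hδ
  have h2' := two_eq_neg_one (F := F)
  have h3z : (3 : F) = 0 := by exact_mod_cast CharP.cast_eq_zero F 3
  have hnc : α * α ^ q * c = 1 := by rw [hα, inv_mul_cancel₀ hc0]
  have hnq : (α * α ^ q) ^ q = α * α ^ q := by rw [hα, inv_pow, hcq]
  have hδq : δ + δ ^ q = 0 := by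
    rw [hδ, add_pow_q hF, one_pow, mul_pow, hnq]
    linear_combination hnc + (-(α * α ^ q)) * hcb + h3z
  set u := α • w + (α * δ) • w1 with hu
  set a := h3 u u with ha
  have haq : a ^ q = a := herm_self_fixed hF u
  let B : Fin 3 → Fin 3 → F := ![u + (a * α) • w2, α • w1 + (α * δ) • w2, α • w2]
  have hli : LinearIndependent F B := by
    rw [Fintype.linearIndependent_iff]
    intro g hg i
    rw [Fin.sum_univ_three] at hg
    have hα0 : α ≠ 0 := fun e0 => one_ne_zero (α := F) (by rw [← hnc, e0, zero_mul, zero_mul])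
    obtain ⟨p1, p2, p3⟩ := hind (g 0 * α) (g 0 * (α * δ) + g 1 * α)
      (g 0 * (a * α) + g 1 * (α * δ) + g 2 * α) (by
        rw [← hg]; simp only [B, hu, Matrix.cons_val_zero, Matrix.cons_val_one, Matrix.cons_val]; module)
    have e1 : g 0 = 0 := (mul_eq_zero.mp p1).resolve_right hα0
    have e2 : g 1 = 0 := by
      rw [e1, zero_mul, zero_add] at p2
      exact (mul_eq_zero.mp p2).resolve_right hα0
    have e3 : g 2 = 0 := by
      rw [e1, e2, zero_mul, zero_mul, zero_add, zero_add] at p3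
      exact (mul_eq_zero.mp p3).resolve_right hα0
    fin_cases i <;> assumption
  refine ⟨B, hli, ?_, ?_, ?_, ?_⟩
  · simp only [B, hu, Matrix.cons_val_zero, Matrix.cons_val_one, e, Matrix.mulVec_add, Matrix.mulVec_smul, hN2,
      ← hw1, ← hw2, smul_zero, add_zero]
  · simp only [B, Matrix.cons_val_one, Matrix.cons_val, Matrix.cons_val_zero, e, Matrix.mulVec_add,
      Matrix.mulVec_smul, hN2, ← hw2, smul_zero, add_zero]
  · simp only [B, Matrix.cons_val, e, Matrix.mulVec_smul, hN2, smul_zero, add_zero]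
  have hu2 : h3 w2 u = α ^ q * c := by
    rw [hu, herm_add_right hF, herm_smul_right, herm_smul_right, h21, ← hc, mul_zero, add_zero]
  have hu1 : h3 w1 u = α ^ q * b - (α * δ) ^ q * c := by
    rw [hu, herm_add_right hF, herm_smul_right, herm_smul_right, h11, ← hb]; ring
  have g20 : h3 (α • w2) (u + (a * α) • w2) = 1 := by
    rw [herm_smul_left, herm_add_right hF, herm_smul_right, hu2, h22, mul_zero, add_zero, ← mul_assoc, hnc]
  have g10 : h3 (α • w1 + (α * δ) • w2) (u + (a * α) • w2) = -1 := by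
    simp only [herm_add_left, herm_add_right hF, herm_smul_left, herm_smul_right, hu1, hu2, h12, h22,
      mul_zero, add_zero]
    rw [mul_pow]
    linear_combination (δ - δ ^ q) * hnc + hδq.symm + δ * h3z - hδ - δ * h2' + δ * h2'
  have g00 : h3 (u + (a * α) • w2) (u + (a * α) • w2) = 0 := by
    have hs : h3 u w2 = α * c := by
      rw [← herm_swap hF w2 u, hu2, mul_pow, pow_q_q hF, hcq]
    simp only [herm_add_left, herm_add_right hF, herm_smul_left, herm_smul_right, h22, hu2, hs, mul_zero,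
      add_zero, ← ha, mul_pow, haq]
    linear_combination (2 * a) * hnc + a * h3z
  have g21 : h3 (α • w2) (α • w1 + (α * δ) • w2) = 0 := by
    simp only [herm_add_right hF, herm_smul_left, herm_smul_right, h21, h22, mul_zero, add_zero]
  have g22 : h3 (α • w2) (α • w2) = 0 := by
    rw [herm_smul_left, herm_smul_right, h22, mul_zero, mul_zero]
  have g11 : h3 (α • w1 + (α * δ) • w2) (α • w1 + (α * δ) • w2) = -1 := by
    simp only [herm_add_left, herm_add_right hF, herm_smul_left, herm_smul_right, h11, h12, h21, h22,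
      mul_zero, add_zero]
    linear_combination -hnc
  intro i j
  fin_cases i <;> fin_cases j <;>
    simp only [B, gramU, Fin.zero_eta, Fin.mk_one, Fin.reduceFinMk, Fin.isValue, Matrix.of_apply,
      Matrix.cons_val', Matrix.cons_val_zero, Matrix.cons_val_one, Matrix.cons_val, Matrix.empty_val',
      Matrix.cons_val_fin_one, g00, g10, g11, g20, g21, g22]
  · rw [← herm_swap hF, g10, neg_pow_q hF, one_pow]
  · rw [← herm_swap hF, g20, one_pow]
  · rw [← herm_swap hF, g21, zero_pow hq]

/-- Regular unipotent elements are conjugate. -/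
theorem isConj_regular (hF : Fintype.card F = q ^ 2) [CharP F 3] (x y : SU 3 F q)
    (hx3 : (suMat 3 F q x - 1) ^ 3 = 0) (hx2 : (suMat 3 F q x - 1) ^ 2 ≠ 0)
    (hy3 : (suMat 3 F q y - 1) ^ 3 = 0) (hy2 : (suMat 3 F q y - 1) ^ 2 ≠ 0) : IsConj x y := by
  haveI : Fact (Nat.Prime 3) := ⟨Nat.prime_three⟩
  obtain ⟨b, hb, hb0, hb1, hb2, hbg⟩ := exists_normal_basis hF (suMat_preserves x) hx3 hx2
  obtain ⟨b', hb', hb0', hb1', hb2', hbg'⟩ := exists_normal_basis hF (suMat_preserves y) hy3 hy2
  have hbs : ⊤ ≤ Submodule.span F (Set.range b) :=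
    (hb.span_eq_top_of_card_eq_finrank' (by simp)).ge
  obtain ⟨g, hg⟩ := exists_isometry_of_gram hF hb hbs (b := b') fun i j => by rw [hbg, hbg']
  have hgx : gmat g * suMat 3 F q x = suMat 3 F q y * gmat g := by
    refine Matrix.toLin'.injective ((Module.Basis.mk hb hbs).ext fun i => ?_)
    rw [Module.Basis.mk_apply, Matrix.toLin'_apply, Matrix.toLin'_apply, ← Matrix.mulVec_mulVec,
      ← Matrix.mulVec_mulVec]
    have hgi : ∀ i, gmat g *ᵥ b i = b' i := hg
    fin_cases i <;> simp [hb0, hb1, hb2, hb0', hb1', hb2', Matrix.mulVec_add, hgi]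
  obtain ⟨μ, hμ⟩ := (bijective_frobenius F 3).2 ((gmat g).det)⁻¹
  rw [frobenius_def] at hμ
  have hd := det_gmat_norm hF g
  have hd0 : (gmat g).det ≠ 0 := left_ne_zero_of_mul_eq_one hd
  have hμn : μ * μ ^ q = 1 := eq_one_of_pow_three (by
    rw [mul_pow, pow_right_comm, hμ, inv_pow, ← mul_inv, hd, inv_one])
  have hP : Preserves q (μ • gmat g) := fun u v => by
    rw [Matrix.smul_mulVec, Matrix.smul_mulVec, herm_smul_left, herm_smul_right, ← mul_assoc, hμn, one_mul]
    exact g.2 u v
  have hPd : (μ • gmat g).det = 1 := by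
    rw [Matrix.det_smul, Fintype.card_fin, hμ, inv_mul_cancel₀ hd0]
  refine isConj_iff.2 ⟨toSU hP hPd, ?_⟩
  rw [mul_inv_eq_iff_eq_mul]
  refine Subtype.ext (Subtype.ext ?_)
  show (μ • gmat g) * suMat 3 F q x = suMat 3 F q y * (μ • gmat g)
  rw [smul_mul_assoc, hgx, mul_smul_comm]

/-! ### The normaliser of a cubic field -/

/-- The algebra generated by a matrix. -/
noncomputable def polyAlg (B : M3) : Subalgebra F M3 := (aeval (R := F) B).range

/-- The algebra generated by a matrix as an image of the adjunction of a root. -/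
noncomputable def polyHom (B : M3) : AdjoinRoot B.charpoly →ₐ[F] M3 where
  toRingHom := Ideal.Quotient.lift (Ideal.span {B.charpoly}) (aeval (R := F) B).toRingHom (fun a ha => by
    obtain ⟨k, rfl⟩ := Ideal.mem_span_singleton.mp ha
    show aeval B (B.charpoly * k) = 0
    rw [map_mul, Matrix.aeval_self_charpoly, zero_mul])
  commutes' r := by
    show aeval B (Polynomial.C r) = _
    rw [aeval_C]

theorem polyHom_mk (B : M3) (f : F[X]) : polyHom B (AdjoinRoot.mk _ f) = aeval B f := rfl

theorem polyHom_root (B : M3) : polyHom B (AdjoinRoot.root _) = B := (polyHom_mk B X).trans (aeval_X B)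

variable (q) in
/-- The normaliser of the algebra generated by a matrix. -/
noncomputable def normGrp [Finite (SU 3 F q)] (B : M3) : Subgroup (SU 3 F q) where
  carrier := {g | ∀ A ∈ polyAlg B, suMat 3 F q g * A * suMat 3 F q g⁻¹ ∈ polyAlg B}
  one_mem' A hA := by rwa [inv_one, map_one, one_mul, mul_one]
  mul_mem' {a b} ha hb A hA := by
    have := ha _ (hb A hA)
    rwa [mul_inv_rev, map_mul, map_mul, mul_assoc, mul_assoc, mul_assoc, ← mul_assoc A, ← mul_assoc,
      ← mul_assoc, ← mul_assoc, mul_assoc (suMat 3 F q a), mul_assoc (suMat 3 F q a)] at *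
  inv_mem' {a} ha := by
    have hpow : ∀ k : ℕ, ∀ A ∈ polyAlg B,
        suMat 3 F q (a ^ k) * A * suMat 3 F q (a ^ k)⁻¹ ∈ polyAlg B := by
      intro k
      induction k with
      | zero => intro A hA; rwa [pow_zero, inv_one, map_one, one_mul, mul_one]
      | succ k ih =>
        intro A hA
        have := ih _ (ha A hA)
        rw [pow_succ, mul_inv_rev, map_mul, map_mul]
        simpa only [mul_assoc] using this
    have hinv : a⁻¹ = a ^ (orderOf a - 1) := by
      apply inv_eq_of_mul_eq_one_right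
      rw [← pow_succ', Nat.sub_add_cancel (orderOf_pos a), pow_orderOf_eq_one]
    intro A hA
    rw [hinv]
    exact hpow _ A hA

variable {B : Matrix (Fin 3) (Fin 3) F} (hC : Irreducible (Matrix.charpoly B))
include hC

theorem isUnit_or_zero (A : M3) (hA : A ∈ polyAlg B) : A = 0 ∨ IsUnit A := by
  obtain ⟨f, rfl⟩ := hA
  by_cases hd : B.charpoly ∣ f
  · left
    obtain ⟨k, rfl⟩ := hd
    show aeval B (B.charpoly * k) = 0
    rw [map_mul, Matrix.aeval_self_charpoly, zero_mul]
  · right
    obtain ⟨a, b, hab⟩ := (hC.coprime_iff_not_dvd.mpr hd)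
    refine IsUnit.of_mul_eq_one_right (aeval B b) ?_
    have := congrArg (aeval B) hab
    rwa [map_add, map_mul, map_mul, Matrix.aeval_self_charpoly, mul_zero, zero_add, map_one] at this

theorem eq_zero_of_kill (A : M3) (hA : A ∈ polyAlg B) {v : Fin 3 → F} (hv : v ≠ 0)
    (h : A *ᵥ v = 0) : A = 0 :=
  (isUnit_or_zero hC A hA).resolve_right fun hu =>
    hv ((Matrix.mulVec_injective_iff_isUnit.2 hu) (by rw [h, Matrix.mulVec_zero]))

theorem exists_cyclic {v : Fin 3 → F} (hv : v ≠ 0) (w : Fin 3 → F) :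
    ∃ A ∈ polyAlg B, A *ᵥ v = w := by
  let Φ : Polynomial.degreeLT F 3 →ₗ[F] (Fin 3 → F) :=
    { toFun := fun f => aeval B (f : F[X]) *ᵥ v
      map_add' := fun f g => by simp [Matrix.add_mulVec]
      map_smul' := fun r f => by simp [Matrix.smul_mulVec] }
  haveI : FiniteDimensional F (Polynomial.degreeLT F 3) := (Polynomial.degreeLTEquiv F 3).symm.finiteDimensional
  have hinj : Function.Injective Φ := by
    refine (injective_iff_map_eq_zero Φ).mpr fun f hf => Subtype.ext ?_
    by_contra h0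
    have h1 : aeval B (f : F[X]) = 0 := eq_zero_of_kill hC _ ⟨_, rfl⟩ hv hf
    have hnd : ¬ B.charpoly ∣ (f : F[X]) := fun hd => by
      have hdg3 := Polynomial.mem_degreeLT.mp f.2
      have := degree_le_of_dvd hd h0
      rw [Matrix.charpoly_degree_eq_dim, Fintype.card_fin] at this
      exact absurd (this.trans_lt hdg3) (lt_irrefl _)
    obtain ⟨a, b, hab⟩ := hC.coprime_iff_not_dvd.mpr hnd
    have := congrArg (aeval B) hab
    rw [map_add, map_mul, map_mul, Matrix.aeval_self_charpoly, h1, mul_zero, mul_zero, add_zero, map_one] at this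
    exact hv (by rw [← Matrix.one_mulVec v, ← this, Matrix.zero_mulVec])
  have hsurj := (LinearMap.injective_iff_surjective_of_finrank_eq_finrank (f := Φ)
    (by rw [(Polynomial.degreeLTEquiv F 3).finrank_eq])).mp hinj
  obtain ⟨f, hf⟩ := hsurj w
  exact ⟨_, ⟨_, rfl⟩, hf⟩

theorem eq_one_of_commute_fixed {U : M3} (hU : Commute U B) {v : Fin 3 → F} (hv : v ≠ 0) (hf : U *ᵥ v = v) :
    U = 1 := by
  refine Matrix.toLin'.injective (LinearMap.ext fun w => ?_)
  obtain ⟨A, ⟨f, rfl⟩, rfl⟩ := exists_cyclic hC hv w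
  rw [Matrix.toLin'_apply, Matrix.toLin'_apply, Matrix.one_mulVec, Matrix.mulVec_mulVec]
  show (U * aeval B f) *ᵥ v = aeval B f *ᵥ v
  rw [show U * aeval B f = aeval B f * U from Algebra.commute_of_mem_adjoin_singleton_of_commute
    (aeval_mem_adjoin_singleton F B) hU, ← Matrix.mulVec_mulVec, hf]

/-- The normaliser has no transvections. -/
theorem eq_one_of_norm [Finite (SU 3 F q)] [CharP F 3] {g : SU 3 F q} (hg : g ∈ normGrp q B) {v : Fin 3 → F}
    (hv : v ≠ 0) (hfix : suMat 3 F q g *ᵥ v = v) (h2 : (suMat 3 F q g - 1) ^ 2 = 0) : g = 1 := by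
  set G := suMat 3 F q g with hG
  set G' := suMat 3 F q g⁻¹ with hG'
  have hGG : G' * G = 1 := by rw [hG, hG', ← map_mul, inv_mul_cancel, map_one]
  let T : M3 → M3 := fun A => G * A * G'
  have hTm : ∀ A B, T A * T B = T (A * B) := fun A B => by
    simp only [T, mul_assoc]; rw [← mul_assoc G' G, hGG, one_mul]
  have hTa : ∀ A B, T (A + B) = T A + T B := fun A B => by simp only [T, mul_add, add_mul]
  have hTv : ∀ A, G *ᵥ (A *ᵥ v) = T A *ᵥ v := fun A => by
    simp only [T, ← Matrix.mulVec_mulVec]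
    rw [show G' *ᵥ v = v from suMat_inv_mulVec g hfix]
  have key : ∀ A ∈ polyAlg B, T (T A) - (T A + T A) + A = 0 := by
    intro A hA
    refine eq_zero_of_kill hC _ ?_ hv ?_
    · exact add_mem (sub_mem (hg _ (hg A hA)) (add_mem (hg A hA) (hg A hA))) hA
    · rw [Matrix.add_mulVec, Matrix.sub_mulVec, Matrix.add_mulVec, ← hTv, ← hTv]
      have h1 := congrArg (· *ᵥ (A *ᵥ v)) h2
      simp only [pow_two, ← Matrix.mulVec_mulVec, Matrix.sub_mulVec, Matrix.one_mulVec, Matrix.mulVec_sub,
        Matrix.zero_mulVec] at h1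
      rw [← h1]; abel
  have hCR : B ∈ polyAlg B := ⟨X, aeval_X B⟩
  set c := T B - B with hc
  have hcR : c ∈ polyAlg B := sub_mem (hg B hCR) hCR
  have hTC : T B = B + c := by rw [hc]; abel
  have hTc : T c = c := by
    have h1 := key B hCR
    rw [hTC, hTa, hTC] at h1
    rw [← sub_eq_zero, ← h1]; abel
  have hcC : B * c = c * B := by
    obtain ⟨f, hf⟩ := hcR
    rw [← hf]
    show B * aeval B f = aeval B f * B
    conv_lhs => arg 1; rw [← aeval_X (R := F) B]
    conv_rhs => arg 2; rw [← aeval_X (R := F) B]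
    rw [← map_mul, ← map_mul, mul_comm]
  have h4 : c * c + c * c = 0 := by
    have h1 := key (B * B) ⟨X * X, by simp⟩
    have e1 : T (B * B) = (B + c) * (B + c) := (hTm B B).symm.trans (by rw [hTC])
    have e2 : T ((B + c) * (B + c)) = (B + c + c) * (B + c + c) :=
      (hTm (B + c) (B + c)).symm.trans (by rw [hTa B c, hTC, hTc])
    rw [e1, e2] at h1
    rw [← h1]
    noncomm_ring
  have hc0 : c = 0 := by
    rcases isUnit_or_zero hC c hcR with e | e
    · exact e
    · exfalso
      have h5 : (2 : F) • (c * c) = 0 := by rw [two_smul]; exact h4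
      rw [two_eq_neg_one, neg_smul, one_smul, neg_eq_zero] at h5
      exact (e.mul e).ne_zero h5
  have hcomm : Commute G B := by
    rw [hc0, add_zero] at hTC
    show G * B = B * G
    conv_rhs => rw [← hTC]
    simp only [T, mul_assoc, hGG, mul_one]
  have h1 := eq_one_of_commute_fixed hC hcomm hv hfix
  refine Subtype.ext (Subtype.ext ?_)
  exact h1

omit hC

/-- An irreducible characteristic polynomial forces order prime to the characteristic. -/
theorem pow_card_cube {M : M3} (hM : Irreducible M.charpoly) : M ^ (Fintype.card F ^ 3) = M := by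
  haveI : Fact (Irreducible M.charpoly) := ⟨hM⟩
  let L := AdjoinRoot M.charpoly
  haveI : Module.Finite F L := (AdjoinRoot.powerBasis hM.ne_zero).finite
  haveI : Finite L := Module.finite_of_finite F
  haveI : Fintype L := Fintype.ofFinite L
  have hcard : Fintype.card L = Fintype.card F ^ 3 := by
    rw [Module.card_eq_pow_finrank (K := F), (AdjoinRoot.powerBasis hM.ne_zero).finrank, AdjoinRoot.powerBasis_dim,
      Matrix.charpoly_natDegree_eq_dim, Fintype.card_fin]
  let φ : L →ₐ[F] M3 := polyHom M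
  have hr : φ (AdjoinRoot.root _) = M := polyHom_root M
  have := congrArg φ (FiniteField.pow_card (AdjoinRoot.root M.charpoly))
  rwa [map_pow, hr, hcard] at this

theorem suMat_injective : Function.Injective (suMat 3 F q) := fun _ _ h => Subtype.ext (Subtype.ext h)

theorem isConj_of_irreducible (hF : Fintype.card F = q ^ 2) [CharP F 3] (x y : SU 3 F q)
    (hx : Irreducible (suMat 3 F q x).charpoly) (hxy : (suMat 3 F q x).charpoly = (suMat 3 F q y).charpoly) :
    IsConj x y := by
  haveI : Fact (Nat.Prime 3) := ⟨Nat.prime_three⟩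
  have hco : ∀ z : SU 3 F q, Irreducible (suMat 3 F q z).charpoly → (orderOf z).Coprime 3 := by
    intro z hz
    have h1 : z ^ (Fintype.card F ^ 3) = z := suMat_injective (by rw [map_pow]; exact pow_card_cube hz)
    have hpos : 0 < Fintype.card F ^ 3 := pow_pos Fintype.card_pos _
    have h2 : z ^ (Fintype.card F ^ 3 - 1) = 1 := by
      apply mul_right_cancel (b := z)
      rw [← pow_succ, Nat.sub_add_cancel hpos, h1, one_mul]
    refine Nat.Coprime.coprime_dvd_left (orderOf_dvd_of_pow_eq_one h2) ?_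
    rw [Nat.coprime_comm, Nat.prime_three.coprime_iff_not_dvd]
    obtain ⟨f, -, hf⟩ := FiniteField.card F 3
    have h3d : 3 ∣ Fintype.card F ^ 3 := by
      rw [hf]; exact dvd_pow (dvd_pow_self 3 f.ne_zero) three_ne_zero
    omega
  exact Cfsg.Agent.H54.USS.isConj_of_charpoly hF 3 x y (hco x hx) (hco y (hxy ▸ hx)) hxy

set_option maxHeartbeats 1000000 in
/-- A unitary root of a self-dual cubic in a field generated by a unitary matrix. -/
theorem exists_root_mem (hF : Fintype.card F = q ^ 2) (x0 x : SU 3 F q)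
    (h0 : Irreducible (suMat 3 F q x0).charpoly) (hx : Irreducible (suMat 3 F q x).charpoly) :
    ∃ y : SU 3 F q, suMat 3 F q y ∈ polyAlg (suMat 3 F q x0) ∧
      (suMat 3 F q y).charpoly = (suMat 3 F q x).charpoly := by
  set B := suMat 3 F q x0 with hC
  set P := (suMat 3 F q x).charpoly with hP
  haveI : Fact (Irreducible B.charpoly) := ⟨h0⟩
  haveI : Fact (Irreducible P) := ⟨hx⟩
  let L := AdjoinRoot B.charpoly
  haveI : Module.Finite F L := (AdjoinRoot.powerBasis h0.ne_zero).finite
  haveI : Finite L := Module.finite_of_finite F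
  haveI : Module.Finite F (AdjoinRoot P) := (AdjoinRoot.powerBasis hx.ne_zero).finite
  haveI : Finite (AdjoinRoot P) := Module.finite_of_finite F
  have hrank : Module.finrank F L = 3 := by
    rw [(AdjoinRoot.powerBasis h0.ne_zero).finrank, AdjoinRoot.powerBasis_dim, Matrix.charpoly_natDegree_eq_dim,
      Fintype.card_fin]
  let φ : L →ₐ[F] M3 := polyHom B
  have hφinj : Function.Injective φ := RingHom.injective φ.toRingHom
  have hφmk : ∀ f : F[X], φ (AdjoinRoot.mk _ f) = aeval B f := by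
    exact polyHom_mk B
  obtain ⟨e⟩ := FiniteField.nonempty_algHom_of_finrank_dvd (F := F) (K := AdjoinRoot P) (L := L)
    (by rw [hrank, (AdjoinRoot.powerBasis hx.ne_zero).finrank, AdjoinRoot.powerBasis_dim,
      Matrix.charpoly_natDegree_eq_dim, Fintype.card_fin])
  set β := e (AdjoinRoot.root P) with hβ
  have hPβ : aeval β P = 0 := by rw [hβ, aeval_algHom_apply, AdjoinRoot.aeval_eq, AdjoinRoot.mk_self, map_zero]
  have hPm : P.Monic := Matrix.charpoly_monic _
  have hchar : ∀ l : L, aeval l P = 0 → (φ l).charpoly = P := by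
    intro l hl
    have h1 : aeval (φ l) P = 0 := by rw [aeval_algHom_apply, hl, map_zero]
    have h2 : minpoly F (φ l) = P := (minpoly.eq_of_irreducible_of_monic hx h1 hPm).symm
    refine eq_of_monic_of_dvd_of_natDegree_le hPm (Matrix.charpoly_monic _) ?_ ?_
    · rw [← h2]; exact Matrix.minpoly_dvd_charpoly _
    · rw [hP, Matrix.charpoly_natDegree_eq_dim, Matrix.charpoly_natDegree_eq_dim]
  set A := φ β with hA
  have hAc : A.charpoly = P := hchar β hPβ
  have hdetx : P.coeff 0 = -1 := by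
    have := Cfsg.Agent.H54.USS.det_eq_coeff hF (suMat 3 F q x)
    rw [show (suMat 3 F q x).det = 1 from (x : Matrix.SpecialLinearGroup (Fin 3) F).2, ← hP] at this
    linear_combination this
  have hAdet : A.det = 1 := by
    rw [Cfsg.Agent.H54.USS.det_eq_coeff hF, hAc, hdetx]; ring
  have hAu : IsUnit A := (Matrix.isUnit_iff_isUnit_det _).2 (by rw [hAdet]; exact isUnit_one)
  -- the adjoint acts on the field
  have hstarC : hstar q B = B ^ (orderOf x0 - 1) := by
    have h1 : hstar q B * B = 1 := (preserves_iff_hstar hF).1 (suMat_preserves x0)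
    have h2 : B * B ^ (orderOf x0 - 1) = 1 := by
      rw [← pow_succ', Nat.sub_add_cancel (orderOf_pos x0), hC, ← map_pow, pow_orderOf_eq_one, map_one]
    exact left_inv_eq_right_inv h1 h2
  obtain ⟨η, hη⟩ : ∃ η : L → L, ∀ l, φ (η l) = hstar q (φ l) := by
    suffices key : ∀ l : L, ∃ l' : L, φ l' = hstar q (φ l) from
      ⟨fun l => (key l).choose, fun l => (key l).choose_spec⟩
    intro l
    obtain ⟨f, rfl⟩ := AdjoinRoot.mk_surjective l
    refine ⟨AdjoinRoot.mk _ ((f.map (frob hF).toRingHom).comp (X ^ (orderOf x0 - 1))), ?_⟩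
    rw [hφmk, hφmk, Cfsg.Agent.H54.USS.hstar_aeval' hF, hstarC, aeval_comp, map_pow, aeval_X]
  have hηη : ∀ l, η (η l) = l := fun l => hφinj (by rw [hη, hη, hstar_hstar hF])
  have hηpow : ∀ l (k : ℕ), η (l ^ k) = η l ^ k := fun l k => hφinj (by
    rw [hη, map_pow, map_pow, hη, Cfsg.Agent.H54.USS.hstar_pow' hF])
  have hηinv : ∀ l, η l⁻¹ = (η l)⁻¹ := by
    intro l
    rcases eq_or_ne l 0 with rfl | hl
    · have h0' : η 0 = 0 := hφinj (by
        rw [hη, map_zero]; ext i j; simp [hstar, q_ne_zero hF])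
      rw [inv_zero, h0', inv_zero]
    · refine eq_inv_of_mul_eq_one_left (hφinj ?_)
      rw [map_mul, hη, hη, ← hstar_mul hF, ← map_mul, mul_inv_cancel₀ hl, map_one, hstar_one hF]
  set γ := (η β)⁻¹ with hγ
  have hβ0 : η β ≠ 0 := fun e0 => by
    have := hη β
    rw [e0, map_zero] at this
    exact (hstar_isUnit hF hAu).ne_zero this.symm
  have hφγ : φ γ = (hstar q A)⁻¹ := by
    refine (Matrix.inv_eq_left_inv ?_).symm
    rw [hA, ← hη, ← map_mul, hγ, inv_mul_cancel₀ hβ0, map_one]
  have hPγ : aeval γ P = 0 := by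
    refine hφinj ?_
    rw [map_zero, ← aeval_algHom_apply, hφγ]
    have h1 : Cfsg.Agent.H54.USS.dual hF A.charpoly = P := by
      rw [hAc, hP]; exact Cfsg.Agent.H54.USS.dual_charpoly hF ((preserves_iff_hstar hF).1 (suMat_preserves x))
    rw [← h1, ← Cfsg.Agent.H54.USS.charpoly_hstar_inv hF hAu, Matrix.aeval_self_charpoly]
  have hmin : ∀ l : L, aeval l P = 0 → minpoly F l = P := fun l hl =>
    (minpoly.eq_of_irreducible_of_monic hx hl hPm).symm
  obtain ⟨σ, hσ⟩ : ∃ σ : L ≃ₐ[F] L, σ β = γ := by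
    obtain ⟨σ, hσ⟩ := (Normal.minpoly_eq_iff_mem_orbit (F := F) (x := γ) (y := β) (E := L)).mp
      (by rw [hmin γ hPγ, hmin β hPβ])
    exact ⟨σ, hσ⟩
  obtain ⟨j, hj⟩ := (FiniteField.bijective_frobeniusAlgEquivOfAlgebraic_pow F L).surjective σ
  have hσpow : ∀ l, σ l = l ^ (Fintype.card F ^ (j : ℕ)) := by
    intro l
    rw [← hj]
    show (FiniteField.frobeniusAlgEquivOfAlgebraic F L ^ (j : ℕ)) l = _
    rw [AlgEquiv.coe_pow, FiniteField.coe_frobeniusAlgEquivOfAlgebraic, pow_iterate]
  have hσσ : σ (σ β) = β := by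
    have e1 : η β = γ⁻¹ := by rw [hγ, inv_inv]
    have e2 : η γ = β⁻¹ := by rw [hγ, hηinv, hηη]
    have e3 : η γ = (σ γ)⁻¹ := by
      calc η γ = η (β ^ Fintype.card F ^ (j : ℕ)) := by rw [← hσpow, hσ]
        _ = (σ γ)⁻¹ := by rw [hηpow, e1, inv_pow, hσpow]
    rw [hσ]
    exact inv_injective (e3.symm.trans e2)
  have hσ3 : σ ^ 3 = 1 := by
    have : Nat.card (L ≃ₐ[F] L) = 3 := by rw [IsGalois.card_aut_eq_finrank, hrank]
    have h := pow_card_eq_one' (x := σ)
    rwa [this] at h
  have hσβ : σ β = β := by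
    have := congrArg (fun τ : L ≃ₐ[F] L => τ β) hσ3
    simp only [pow_succ, pow_zero, one_mul, AlgEquiv.mul_apply, AlgEquiv.one_apply] at this
    rwa [hσσ] at this
  have hAP : Preserves q A := by
    rw [preserves_iff_hstar hF, hA, ← hη, ← map_mul]
    have : η β = β⁻¹ := by rw [show β⁻¹ = γ⁻¹ by rw [← hσ, hσβ], hγ, inv_inv]
    rw [this, inv_mul_cancel₀ (fun e0 => hAu.ne_zero (by rw [hA, e0, map_zero])), map_one]
  refine ⟨toSU hAP hAdet, ?_, hAc⟩
  obtain ⟨f, hf⟩ := AdjoinRoot.mk_surjective β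
  exact ⟨f, by show aeval B f = A; rw [← hφmk, hf]⟩

/-! ### A unitary element with irreducible characteristic polynomial -/

theorem exists_irreducible_elem (hF : Fintype.card F = q ^ 2) [CharP F 3] :
    ∃ x0 : SU 3 F q, Irreducible (suMat 3 F q x0).charpoly ∧ x0 ^ Fintype.card F ≠ x0 := by
  classical
  have hq2 := two_le_q hF
  have hN1 : q * (q - 1) + 1 ≠ 1 := by
    have : 0 < q * (q - 1) := Nat.mul_pos (by omega) (by omega)
    omega
  obtain ⟨r, hr, hrN⟩ := Nat.exists_prime_and_dvd hN1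
  haveI : Fact r.Prime := ⟨hr⟩
  have hz : (q : ZMod r) * q - q + 1 = 0 := by
    have := (ZMod.natCast_eq_zero_iff _ r).mpr hrN
    rw [Nat.cast_add, Nat.cast_mul, Nat.cast_sub (by omega), Nat.cast_one] at this
    linear_combination this
  have hr3 : r ≠ 3 := by
    rintro rfl
    have hq3 : (q : ZMod 3) = 0 := by
      rw [ZMod.natCast_eq_zero_iff]
      obtain ⟨f, -, hf⟩ := FiniteField.card F 3
      refine Nat.prime_three.dvd_of_dvd_pow (n := 2) ?_
      rw [← hF, hf]; exact dvd_pow_self 3 f.ne_zero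
    rw [hq3] at hz
    simp at hz
  have h3r : (3 : ZMod r) ≠ 0 := by
    intro e
    have : r ∣ 3 := (ZMod.natCast_eq_zero_iff 3 r).mp (by exact_mod_cast e)
    exact hr3 ((Nat.prime_dvd_prime_iff_eq hr Nat.prime_three).mp this)
  have hr12 : ∀ d, 1 ≤ d → d ≤ 2 → ¬ r ∣ Fintype.card F ^ d - 1 := by
    intro d hd1 hd2 hdvd
    have h1 : ((q : ZMod r) ^ 2) ^ d = 1 := by
      have := (ZMod.natCast_eq_zero_iff _ r).mpr hdvd
      rw [Nat.cast_sub (pow_pos Fintype.card_pos _), hF, Nat.cast_pow, Nat.cast_pow, Nat.cast_one] at this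
      linear_combination this
    obtain rfl | rfl : d = 1 ∨ d = 2 := by omega
    · have e : (q : ZMod r) = 2 := by linear_combination -hz + h1
      rw [e] at h1
      exact h3r (by linear_combination h1)
    · have e : (q : ZMod r) = -1 := by linear_combination -h1 + ((q : ZMod r) ^ 2 + q) * hz
      rw [e] at hz
      exact h3r (by linear_combination hz)
  have hdvd : r ∣ Nat.card (SU 3 F q) := by
    have h := card_GU_eq_mul_card_SU hF (n := 3) (by norm_num)
    rw [card_GU hF, Finset.prod_range_succ, Finset.prod_range_succ, Finset.prod_range_one] at h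
    have h0 : guFactor q 0 = q + 1 := by simp [guFactor]
    have h1 : guFactor q 1 = q ^ 2 - 1 := by simp [guFactor]
    have h2 : guFactor q 2 = q ^ 3 + 1 := by simp [guFactor]
    rw [h0, h1, h2, show 3 * (3 - 1) / 2 = 3 from rfl] at h
    have hc : Nat.card (SU 3 F q) = q ^ 3 * (q ^ 2 - 1) * (q ^ 3 + 1) := by
      apply Nat.eq_of_mul_eq_mul_left (show 0 < q + 1 by omega)
      rw [← h]; ring
    rw [hc]
    refine Dvd.dvd.mul_left (hrN.trans ⟨q + 1, ?_⟩) _
    obtain ⟨k, rfl⟩ : ∃ k, q = k + 1 := ⟨q - 1, by omega⟩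
    rw [Nat.add_sub_cancel]; ring
  obtain ⟨x0, hx0⟩ := exists_prime_orderOf_dvd_card' r hdvd
  refine ⟨x0, ?_, fun e => ?_⟩
  swap
  · have h1 : x0 ^ (Fintype.card F - 1) = 1 := by
      apply mul_right_cancel (b := x0)
      rw [← pow_succ, Nat.sub_add_cancel Fintype.card_pos, e, one_mul]
    exact hr12 1 le_rfl (by norm_num) (by rw [pow_one, ← hx0]; exact orderOf_dvd_of_pow_eq_one h1)
  set M := suMat 3 F q x0 with hM
  have hMr : M ^ r = 1 := by rw [hM, ← map_pow, ← hx0, pow_orderOf_eq_one, map_one]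
  have hsmall : ∀ g : F[X], g.Monic → Irreducible g → g ∣ M.charpoly → g.natDegree ≤ 2 → g = X - Polynomial.C 1 := by
    intro g hgm hi hg hd
    obtain ⟨v, hv0, hv⟩ := exists_ker hi hg
    have hgr : g ∣ X ^ r - 1 := by
      by_contra hn
      obtain ⟨a, b, hab⟩ := hi.coprime_iff_not_dvd.mpr hn
      have h1 := congrArg (fun P => aeval M P *ᵥ v) hab
      simp only [map_add, map_mul, map_one, Matrix.one_mulVec, Matrix.add_mulVec, ← Matrix.mulVec_mulVec, hv,
        map_sub, map_pow, aeval_X, hMr, sub_self, Matrix.zero_mulVec, Matrix.mulVec_zero, add_zero] at h1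
      exact hv0 h1.symm
    haveI : Fact (Irreducible g) := ⟨hi⟩
    let L := AdjoinRoot g
    haveI : Module.Finite F L := (AdjoinRoot.powerBasis hi.ne_zero).finite
    haveI : Finite L := Module.finite_of_finite F
    haveI : Fintype L := Fintype.ofFinite L
    have hα : (AdjoinRoot.root g) ^ r = 1 := by
      rw [← sub_eq_zero, ← AdjoinRoot.mk_X, ← map_pow, ← map_one (AdjoinRoot.mk g), ← map_sub, AdjoinRoot.mk_eq_zero]
      exact hgr
    have hα0 : AdjoinRoot.root g ≠ 0 := fun e => by rw [e, zero_pow hr.ne_zero] at hα; exact zero_ne_one hα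
    have hα1 := FiniteField.pow_card_sub_one_eq_one (AdjoinRoot.root g) hα0
    rw [Module.card_eq_pow_finrank (K := F), (AdjoinRoot.powerBasis hi.ne_zero).finrank,
      AdjoinRoot.powerBasis_dim] at hα1
    have hone : AdjoinRoot.root g = 1 := by
      have h2 := pow_gcd_eq_one.mpr ⟨hα, hα1⟩
      rwa [(hr.coprime_iff_not_dvd.mpr (hr12 _ hi.natDegree_pos hd)).gcd_eq_one, pow_one] at h2
    have hdv : g ∣ X - Polynomial.C 1 := by
      rw [← AdjoinRoot.mk_eq_zero, map_sub, AdjoinRoot.mk_X, map_one, map_one, hone, sub_self]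
    exact (eq_of_monic_of_dvd_of_natDegree_le hgm (monic_X_sub_C 1) hdv
      (by rw [natDegree_X_sub_C]; exact hi.natDegree_pos)).symm
  have hcd : M.charpoly.natDegree = 3 := by rw [Matrix.charpoly_natDegree_eq_dim, Fintype.card_fin]
  have hsplit : ∀ f : F[X], f.Monic → f ∣ M.charpoly → 1 ≤ f.natDegree → f.natDegree ≤ 2 →
      ∃ k : F[X], k.Monic ∧ f = (X - Polynomial.C 1) * k ∧ k.natDegree + 1 = f.natDegree := by
    intro f hf hfd h1 h2
    obtain ⟨g, hgm, hi, ⟨k, hk⟩⟩ := Polynomial.exists_monic_irreducible_factor f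
      (fun hu => by rw [natDegree_eq_zero_of_isUnit hu] at h1; omega)
    have hkm : k.Monic := hgm.of_mul_monic_left (hk ▸ hf)
    have hdk := congrArg natDegree hk
    rw [hgm.natDegree_mul hkm] at hdk
    have := hsmall g hgm hi (Dvd.dvd.trans ⟨k, hk⟩ hfd) (by omega)
    rw [this, natDegree_X_sub_C] at hdk
    exact ⟨k, hkm, by rw [hk, this], by omega⟩
  by_contra hirr
  obtain ⟨g, hgm, hi, ⟨k, hk⟩⟩ := Polynomial.exists_monic_irreducible_factor M.charpoly
    (fun hu => by rw [natDegree_eq_zero_of_isUnit hu] at hcd; omega)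
  have hkm : k.Monic := hgm.of_mul_monic_left (hk ▸ M.charpoly_monic)
  have hdk := congrArg natDegree hk
  rw [hcd, hgm.natDegree_mul hkm] at hdk
  have hg2 : g.natDegree ≤ 2 := by
    by_contra hlt
    refine hirr ?_
    rw [hk, hkm.natDegree_eq_zero.mp (by omega), mul_one]
    exact hi
  have hg1 := hsmall g hgm hi ⟨k, hk⟩ hg2
  rw [hg1, natDegree_X_sub_C] at hdk
  rw [hg1] at hk
  obtain ⟨k2, hk2m, hk2, hd2⟩ := hsplit k hkm ⟨X - Polynomial.C 1, by rw [hk, mul_comm]⟩ (by omega) (by omega)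
  obtain ⟨k3, hk3m, hk3, hd3⟩ := hsplit k2 hk2m
    ⟨(X - Polynomial.C 1) * (X - Polynomial.C 1), by rw [hk, hk2]; ring⟩ (by omega) (by omega)
  rw [hk2, hk3, hk3m.natDegree_eq_zero.mp (by omega), mul_one] at hk
  have hcube : M ^ 3 = 1 := by
    have h1 := Matrix.aeval_self_charpoly M
    haveI : Fact (Nat.Prime 3) := ⟨Nat.prime_three⟩
    rw [hk, ← pow_three, sub_pow_char (p := 3), ← map_pow, one_pow, map_sub, map_pow, aeval_X, map_one, map_one,
      sub_eq_zero] at h1
    exact h1
  have hx03 : x0 ^ 3 = 1 := suMat_injective (by rw [map_pow, map_one]; exact hcube)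
  have := orderOf_dvd_of_pow_eq_one hx03
  rw [hx0, Nat.prime_dvd_prime_iff_eq hr Nat.prime_three] at this
  exact hr3 this

/-- The normaliser contains a regular unipotent element. -/
theorem exists_unipotent_mem (hF : Fintype.card F = q ^ 2) [CharP F 3] [Finite (SU 3 F q)] {x0 : SU 3 F q}
    (h0 : Irreducible (suMat 3 F q x0).charpoly) (hne : x0 ^ Fintype.card F ≠ x0) :
    ∃ u ∈ normGrp q (suMat 3 F q x0), (suMat 3 F q u - 1) ^ 3 = 0 ∧ (suMat 3 F q u - 1) ^ 2 ≠ 0 := by
  haveI : Fact (Nat.Prime 3) := ⟨Nat.prime_three⟩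
  set Q := Fintype.card F with hQ
  have hQ3 : x0 ^ (Q ^ 3) = x0 := suMat_injective (by rw [map_pow]; exact pow_card_cube h0)
  obtain ⟨g, hg⟩ := isConj_iff.1 (isConj_of_irreducible hF x0 (x0 ^ Q) h0 (by
    rw [map_pow, ← pow_one Q, Cfsg.Agent.H54.PPrime.charpoly_pow]))
  have hiter : ∀ k : ℕ, g ^ k * x0 * (g ^ k)⁻¹ = x0 ^ (Q ^ k) := by
    intro k
    induction k with
    | zero => simp
    | succ k ih =>
      rw [pow_succ', mul_inv_rev, show g * g ^ k * x0 * ((g ^ k)⁻¹ * g⁻¹) = g * (g ^ k * x0 * (g ^ k)⁻¹) * g⁻¹ by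
        group, ih, ← conj_pow, hg, ← pow_mul, pow_succ']
  obtain ⟨s, m, hm, ho⟩ := Nat.exists_eq_pow_mul_and_not_dvd (orderOf_pos g).ne' 3 (by norm_num)
  have hgm : g ^ m ∈ normGrp q (suMat 3 F q x0) := by
    intro A hA
    obtain ⟨f, rfl⟩ := hA
    refine ⟨f.comp (X ^ (Q ^ m)), ?_⟩
    show aeval _ (f.comp _) = suMat 3 F q (g ^ m) * aeval (suMat 3 F q x0) f * suMat 3 F q (g ^ m)⁻¹
    rw [aeval_comp, map_pow, aeval_X, ← map_pow (suMat 3 F q), ← hiter, map_mul, map_mul]
    have hinv : suMat 3 F q (g ^ m)⁻¹ * suMat 3 F q (g ^ m) = 1 := by rw [← map_mul, inv_mul_cancel, map_one]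
    induction f using Polynomial.induction_on with
    | C c =>
      rw [aeval_C, aeval_C, Algebra.algebraMap_eq_smul_one, mul_smul_comm, smul_mul_assoc, mul_one, ← map_mul,
        mul_inv_cancel, map_one]
    | add a b ha hb => rw [map_add, map_add, ha, hb, mul_add, add_mul]
    | monomial k c ih =>
      simp only [pow_succ, ← mul_assoc, map_mul, aeval_X] at ih ⊢
      rw [ih]
      simp only [mul_assoc]
      rw [← mul_assoc (suMat 3 F q (g ^ m)⁻¹) (suMat 3 F q (g ^ m)), hinv, one_mul]
  have hu3 : (g ^ m) ^ (3 ^ s) = 1 := by rw [← pow_mul, mul_comm, ← ho, pow_orderOf_eq_one]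
  have hnil : IsNilpotent (suMat 3 F q (g ^ m) - 1) := by
    haveI : CharP M3 3 := inferInstance
    refine ⟨3 ^ s, ?_⟩
    rw [sub_pow_char_pow_of_commute (p := 3) _ (Commute.one_right _), one_pow, ← map_pow, hu3, map_one, sub_self]
  have hcube : (suMat 3 F q (g ^ m) - 1) ^ 3 = 0 := by
    have h1 := (Matrix.isNilpotent_charpoly_sub_pow_of_isNilpotent hnil).eq_zero
    rw [sub_eq_zero, Fintype.card_fin] at h1
    have h2 := Matrix.aeval_self_charpoly (suMat 3 F q (g ^ m) - 1)
    rwa [h1, map_pow, aeval_X] at h2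
  refine ⟨g ^ m, hgm, hcube, fun h2 => ?_⟩
  have hdet : (suMat 3 F q (g ^ m) - 1).det = 0 := pow_eq_zero_iff three_ne_zero |>.mp (by rw [← Matrix.det_pow, hcube, Matrix.det_zero])
  obtain ⟨v, hv0, hv⟩ := Matrix.exists_mulVec_eq_zero_iff.mpr hdet
  rw [Matrix.sub_mulVec, Matrix.one_mulVec, sub_eq_zero] at hv
  have h1 := eq_one_of_norm h0 hgm hv0 hv h2
  have h4 := hiter m
  rw [h1, one_mul, inv_one, mul_one] at h4
  apply hne
  have hcop : Nat.gcd m 3 = 1 := ((Nat.prime_three.coprime_iff_not_dvd.mpr hm).symm).gcd_eq_one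
  have hp1 : Function.IsPeriodicPt (fun z : SU 3 F q => z ^ Q) m x0 := by
    rw [Function.IsPeriodicPt, Function.IsFixedPt, pow_iterate]; exact h4.symm
  have hp3 : Function.IsPeriodicPt (fun z : SU 3 F q => z ^ Q) 3 x0 := by
    rw [Function.IsPeriodicPt, Function.IsFixedPt, pow_iterate]; exact hQ3
  have hp := hp1.gcd hp3
  rw [hcop] at hp
  exact hp

/-- `PSU₃(3ᵃ)` is covered by two subgroups. -/
theorem psu_three_cover (hF : Fintype.card F = q ^ 2) [CharP F 3] : TwoCover (Cfsg.PSU 3 F q) := by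
  classical
  let toM := suMat 3 F q
  let e : Fin 3 → Fin 3 → F := fun i => Pi.single i 1
  have hee : ∀ i j, h3 (e i) (e j) = if i = j then 1 else 0 := herm_single_single hF
  have he0 : e 0 ≠ 0 := fun h0 => by simpa [e] using congrFun h0 0
  haveI : Finite (SU 3 F q) := inferInstance
  obtain ⟨x0, h0, hne⟩ := exists_irreducible_elem (q := q) hF
  obtain ⟨u, huK, hu3, hu2⟩ := exists_unipotent_mem hF h0 hne
  have hcen : ∀ z ∈ Subgroup.center (SU 3 F q), z = 1 := by
    intro z hz
    obtain ⟨c, hc⟩ := center_smul hF (by norm_num) hz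
    have hM : suMat 3 F q z = c • 1 := Matrix.toLin'.injective (LinearMap.ext fun v => by
      rw [Matrix.toLin'_apply, Matrix.toLin'_apply, hc, Matrix.smul_mulVec, Matrix.one_mulVec])
    have hd : (suMat 3 F q z).det = 1 := (z : Matrix.SpecialLinearGroup (Fin 3) F).2
    rw [hM, Matrix.det_smul, Matrix.det_one, mul_one, Fintype.card_fin] at hd
    refine suMat_injective ?_
    rw [hM, eq_one_of_pow_three hd, one_smul, map_one]
  refine TwoCover.quotient _ (lineGrp toM (e 0) he0) (normGrp q (suMat 3 F q x0)) ?_ ?_ ?_ ?_ ?_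
  · intro z hz; rw [hcen z hz]; exact one_mem _
  · intro z hz; rw [hcen z hz]; exact one_mem _
  · intro htop
    obtain ⟨x, hx⟩ := exists_map_norm_one hF (by norm_num) (v := e 0) (w := e 1)
      (by rw [hee, if_pos rfl]) (by rw [hee, if_pos rfl])
    obtain ⟨c, hc⟩ : x ∈ lineGrp toM (e 0) he0 := by rw [htop]; trivial
    rw [hx] at hc
    simpa [e] using congrFun hc 1
  · intro htop
    obtain ⟨ε, hε⟩ := exists_norm_eq_neg_one hF
    obtain ⟨t, ht⟩ : ∃ t : F, t - t ^ q ≠ 0 := by
      by_contra! h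
      have h1 := card_fixed hF
      rw [Nat.card_congr (Equiv.subtypeUnivEquiv fun x => (sub_eq_zero.1 (h x)).symm), Nat.card_eq_fintype_card,
        hF] at h1
      have := two_le_q hF
      nlinarith
    let w : Fin 3 → F := e 0 + ε • e 1
    have hww : h3 w w = 0 := by
      simp [w, herm_add_left, herm_add_right hF, herm_smul_left, herm_smul_right, hee]
      linear_combination hε
    have hspec : ESpec q w 0 (t - t ^ q) := ⟨hww, herm_zero_left _, by
      rw [sub_pow_q hF, pow_q_q hF, herm_zero_left]; ring⟩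
    have hap : ∀ v, suMat 3 F q (eSU hF hspec) *ᵥ v = v + ((t - t ^ q) * h3 v w) • w := by
      intro v
      rw [suMat_apply_ap, ap_eSU, herm_zero_right hF, smul_zero, zero_smul, add_zero, sub_zero]
    have hfix : suMat 3 F q (eSU hF hspec) *ᵥ w = w := by rw [hap, hww, mul_zero, zero_smul, add_zero]
    have hw0 : w ≠ 0 := fun h => by simpa [w, e] using congrFun h 0
    have hsq : (suMat 3 F q (eSU hF hspec) - 1) ^ 2 = 0 := by
      refine Matrix.toLin'.injective (LinearMap.ext fun v => ?_)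
      simp only [Matrix.toLin'_apply, map_zero, LinearMap.zero_apply, pow_two, ← Matrix.mulVec_mulVec,
        Matrix.sub_mulVec, Matrix.one_mulVec, Matrix.mulVec_sub]
      rw [hap v, Matrix.mulVec_add, Matrix.mulVec_smul, hfix, hap v]
      abel
    have h1 := eq_one_of_norm h0 (htop ▸ Subgroup.mem_top _) hw0 hfix hsq
    have h2 := hap (e 0)
    rw [h1, map_one, Matrix.one_mulVec] at h2
    have h3' : h3 (e 0) w = 1 := by simp [w, herm_add_right hF, herm_smul_right, hee]
    rw [h3', mul_one] at h2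
    have := congrFun h2 0
    simp [w, e] at this
    exact ht this
  · intro x
    by_cases hA : ∃ (v : Fin 3 → F) (c : F), h3 v v ≠ 0 ∧ toM x *ᵥ v = c • v
    · obtain ⟨v, c, hv, hxv⟩ := hA
      obtain ⟨l, hl0, hl⟩ := exists_smul_norm_one hF hv
      obtain ⟨P, hP⟩ := exists_map_norm_one hF (by norm_num) (v := e 0) (w := l • v) (by rw [hee, if_pos rfl]) hl
      refine ⟨P⁻¹, Or.inl ⟨c, ?_⟩⟩
      rw [inv_inv, map_mul, map_mul, ← Matrix.mulVec_mulVec, ← Matrix.mulVec_mulVec, hP, Matrix.mulVec_smul,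
        hxv, smul_comm, Matrix.mulVec_smul, suMat_inv_mulVec P hP]
    push Not at hA
    by_cases hirr : Irreducible (suMat 3 F q x).charpoly
    · obtain ⟨y, hyR, hyc⟩ := exists_root_mem hF x0 x h0 hirr
      obtain ⟨g, hg⟩ := isConj_iff.1 (isConj_of_irreducible hF x y hirr hyc.symm)
      refine ⟨g, Or.inr ?_⟩
      rw [hg]
      intro A hA'
      obtain ⟨f, hf⟩ := hyR
      obtain ⟨f', hf'⟩ := hA'
      refine ⟨f', ?_⟩
      rw [hf']
      have hcomm : Commute (suMat 3 F q y) A := by
        rw [← hf, ← hf']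
        exact (Commute.all f f').map (aeval (suMat 3 F q x0))
      rw [hcomm.eq, mul_assoc, ← map_mul, mul_inv_cancel, map_one, mul_one]
    · have hd3 : (suMat 3 F q x).charpoly.natDegree = 3 := by
        rw [Matrix.charpoly_natDegree_eq_dim, Fintype.card_fin]
      rw [(Matrix.charpoly_monic _).irreducible_iff_roots_eq_zero_of_degree_le_three (by omega) (by omega)] at hirr
      obtain ⟨c, hc⟩ := Multiset.exists_mem_of_ne_zero hirr
      obtain ⟨hx3, hx2⟩ := unipotent_of_root hF (suMat_preserves x) (x : Matrix.SpecialLinearGroup (Fin 3) F).2 hA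
        (isRoot_of_mem_roots hc)
      obtain ⟨g, hg⟩ := isConj_iff.1 (isConj_regular hF x u hx3 hx2 hu3 hu2)
      exact ⟨g, Or.inr (hg ▸ huK)⟩

end Cfsg.Agent.H55.Cover.UThree
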